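import Groth.Agent.H58Aut.Model

/-!
# Local rings of a model: constants, valuation, differentials
-/

set_option autoImplicit false
set_option linter.style.haveILetI false
set_option backward.isDefEq.respectTransparency false
set_option backward.isDefEq.respectTransparency.types false
universe u

open CategoryTheory CategoryTheory.Limits AlgebraicGeometry IsLocalRing Groth.Agent.Lib Groth.Agent.Lib.ModelFibre
open Groth.Agent.Lib.ModelFibre.Stalk (baseHom)

noncomputable section

namespace Groth.Agent.H58Aut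

variable {R : Type u} [CommRing R] [IsDomain R] [IsDiscreteValuationRing R] {C : Scheme.{u}} [IsIntegral C]
  {fC : C ⟶ Spec (CommRingCat.of (FractionRing R))}

/-- The constants. -/
def algR (fC : C ⟶ Spec (CommRingCat.of (FractionRing R))) : R →+* C.functionField :=
  (baseHom fC (genericPoint C)).comp (algebraMap R (FractionRing R))

namespace Mdl

variable (M : Mdl R C fC)

/-- The local rings in the function field. -/
abbrev S (x : M.X) : Subring C.functionField := sub M.i M.hi x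

theorem stalkMap_baseHom (p : C) (r : R) :
    M.i.stalkMap p (baseHom M.f (M.i p) r) = baseHom fC p (algebraMap R (FractionRing R) r) := by
  show M.i.stalkMap p ((M.X.presheaf.germ ⊤ (M.i p) trivial).hom (Coh.toGlobal M.f r)) = _
  rw [Scheme.Hom.germ_stalkMap_apply]
  refine congrArg (C.presheaf.germ ⊤ p trivial).hom ?_
  have h3 : (Scheme.ΓSpecIso (CommRingCat.of R)).inv ≫ M.f.appTop ≫ M.i.appTop =
      CommRingCat.ofHom (algebraMap R (FractionRing R)) ≫
        (Scheme.ΓSpecIso (CommRingCat.of (FractionRing R))).inv ≫ fC.appTop := by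
    rw [← Scheme.Hom.comp_appTop, M.sq.w, Scheme.Hom.comp_appTop, Scheme.ΓSpecIso_inv_naturality_assoc]
  exact congrArg (fun g => (CommRingCat.Hom.hom g) r) h3

theorem jx_baseHom (x : M.X) (r : R) : jx M.i M.hi x (baseHom M.f x r) = algR fC r := by
  have h : M.i (genericPoint C) ⤳ x := by rw [M.hi]; exact genericPoint_specializes x
  rw [jx_eq M.i M.hi x h]
  refine Eq.trans ?_ (M.stalkMap_baseHom (genericPoint C) r)
  exact congrArg (M.i.stalkMap (genericPoint C)).hom
    (ConcreteCategory.congr_hom (M.X.presheaf.germ_stalkSpecializes (U := ⊤) (hy := trivial) h) (Coh.toGlobal M.f r))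

theorem jHom_surjective : Function.Surjective (jHom M.i M.hi) := by
  intro c
  obtain ⟨d, rfl⟩ := (ConcreteCategory.bijective_of_isIso (M.i.stalkMap (genericPoint C))).2 c
  obtain ⟨e, rfl⟩ := (ConcreteCategory.bijective_of_isIso
    (M.X.presheaf.stalkCongr (.of_eq M.hi.symm)).hom).2 d
  exact ⟨e, rfl⟩

theorem algR_mem (x : M.X) (r : R) : algR fC r ∈ M.S x := ⟨_, M.jx_baseHom x r⟩

theorem algR_ne_zero {r : R} (hr : r ≠ 0) : algR fC r ≠ 0 := fun h =>
  hr (IsFractionRing.injective R (FractionRing R) (((baseHom fC (genericPoint C)).injective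
    (h.trans (map_zero _).symm)).trans (map_zero _).symm))

theorem isDVR_ξ : IsDiscreteValuationRing (M.X.presheaf.stalk M.ξ) := by
  haveI := (M.normalX M.ξ).1
  have hne : baseHom M.f M.ξ M.π ≠ 0 := fun h => algR_ne_zero (fC := fC) M.hπ.ne_zero (by
    rw [← M.jx_baseHom M.ξ, h, map_zero])
  have hnf : ¬ IsField (M.X.presheaf.stalk M.ξ) := fun hf => hne (by
    have h := M.maximalIdeal_ξ
    rw [(IsLocalRing.isField_iff_maximalIdeal_eq).1 hf] at h
    exact Ideal.span_singleton_eq_bot.1 h.symm)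
  exact ((IsDiscreteValuationRing.TFAE (M.X.presheaf.stalk M.ξ) hnf).out 4 0 rfl rfl).mp ⟨_, M.maximalIdeal_ξ⟩

theorem S_ξ_total (c : C.functionField) : c ∈ M.S M.ξ ∨ c⁻¹ ∈ M.S M.ξ := by
  haveI := M.isDVR_ξ
  obtain ⟨c, rfl⟩ := M.jHom_surjective c
  rcases ValuationRing.isInteger_or_isInteger (M.X.presheaf.stalk M.ξ) (K := M.X.functionField) c with ⟨a, ha⟩ | ⟨a, ha⟩
  · exact .inl ⟨a, congrArg (jHom M.i M.hi) ha⟩
  · exact .inr ⟨a, (congrArg (jHom M.i M.hi) ha).trans (map_inv₀ _ _)⟩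

theorem exists_pow_mul (c : C.functionField) : ∃ N : ℕ, algR fC M.π ^ N * c ∈ M.S M.ξ := by
  haveI := M.isDVR_ξ
  obtain ⟨c, rfl⟩ := M.jHom_surjective c
  obtain ⟨a, b, hb, rfl⟩ := IsFractionRing.div_surjective (A := M.X.presheaf.stalk M.ξ) c
  have hirr : Irreducible (baseHom M.f M.ξ M.π) :=
    (IsDiscreteValuationRing.irreducible_iff_uniformizer _).2 M.maximalIdeal_ξ
  obtain ⟨N, u, hu⟩ := IsDiscreteValuationRing.eq_unit_mul_pow_irreducible (nonZeroDivisors.ne_zero hb) hirr
  refine ⟨N, ↑u⁻¹ * a, ?_⟩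
  show jx M.i M.hi M.ξ _ = _
  rw [map_div₀]
  show jx M.i M.hi M.ξ _ = _ * (jx M.i M.hi M.ξ a / jx M.i M.hi M.ξ b)
  rw [hu, map_mul, map_mul, map_pow, M.jx_baseHom, map_units_inv]
  have h1 : jx M.i M.hi M.ξ u ≠ 0 := ((u.isUnit).map _).ne_zero
  have h2 : algR fC M.π ^ N ≠ 0 := pow_ne_zero _ (algR_ne_zero M.hπ.ne_zero)
  field_simp

theorem sep_ξ (c : C.functionField) (h : ∀ n : ℕ, c / algR fC M.π ^ n ∈ M.S M.ξ) : c = 0 := by
  haveI := M.isDVR_ξ
  obtain ⟨a, ha⟩ := h 0
  rw [pow_zero, div_one] at ha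
  subst ha
  suffices a = 0 by rw [this, map_zero]
  have h1 : a ∈ ⨅ n : ℕ, maximalIdeal (M.X.presheaf.stalk M.ξ) ^ n := by
    rw [Submodule.mem_iInf]
    intro n
    obtain ⟨b, hb⟩ := h n
    rw [M.maximalIdeal_ξ, Ideal.span_singleton_pow, Ideal.mem_span_singleton']
    refine ⟨b, jx_injective M.i M.hi M.ξ ?_⟩
    rw [map_mul, map_pow, M.jx_baseHom, hb, div_mul_cancel₀ _ (pow_ne_zero _ (algR_ne_zero M.hπ.ne_zero))]
  rwa [Ideal.iInf_pow_eq_bot_of_isLocalRing _ (maximalIdeal.isMaximal _).ne_top, Ideal.mem_bot] at h1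

/-- Fractions: a generization has fractions of the elements of the local ring. -/
theorem exists_frac {x y : M.X} (h : y ⤳ x) (b : C.functionField) (hb : b ∈ M.S y) :
    ∃ a ∈ M.S x, ∃ s ∈ M.S x, s ≠ 0 ∧ s⁻¹ ∈ M.S y ∧ s * b = a := by
  obtain ⟨U, hU, hxU, -⟩ := exists_isAffineOpen_mem_and_subset (show x ∈ (⊤ : M.X.Opens) from trivial)
  have hyU : y ∈ U := h.mem_open U.2 hxU
  obtain ⟨b, rfl⟩ := hb
  letI := TopCat.Presheaf.algebra_section_stalk M.X.presheaf (⟨y, hyU⟩ : U)
  haveI := hU.isLocalization_stalk ⟨y, hyU⟩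
  obtain ⟨⟨a, s⟩, e⟩ := IsLocalization.surj (hU.primeIdealOf ⟨y, hyU⟩).asIdeal.primeCompl b
  have hsp : ∀ u : Γ(M.X, U), jx M.i M.hi y (algebraMap Γ(M.X, U) (M.X.presheaf.stalk y) u) =
      jx M.i M.hi x (M.X.presheaf.germ U x hxU u) := fun u => by
    rw [← jx_specializes M.i M.hi h]
    exact congrArg _ (ConcreteCategory.congr_hom (M.X.presheaf.germ_stalkSpecializes hxU h) u).symm
  have hu := IsLocalization.map_units (M.X.presheaf.stalk y) s
  refine ⟨_, ⟨M.X.presheaf.germ U x hxU a, rfl⟩, _, ⟨M.X.presheaf.germ U x hxU s.1, rfl⟩, ?_, ?_, ?_⟩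
  · rw [← hsp]; exact (hu.map (jx M.i M.hi y)).ne_zero
  · rw [← hsp]
    obtain ⟨v, hv⟩ := hu
    exact ⟨↑v⁻¹, by rw [map_units_inv, hv]⟩
  · rw [← hsp, ← hsp, ← e, ← map_mul, mul_comm]

theorem cyc_of_specializes [Algebra R C.functionField] {N : Type*} [AddCommGroup N] [Module C.functionField N]
    [Module R N] {D : Derivation R C.functionField N} {x y : M.X} {ω : N} (hc : Cyc D (M.S x) ω) (h : y ⤳ x) :
    Cyc D (M.S y) ω :=
  hc.of_frac D (sub_mono M.i M.hi h) (M.exists_frac h)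

theorem fibreDimAt_eq_one (x : M.X) : FlatMor.fibreDimAt M.f x = 1 := by
  let s := M.f x
  haveI : Nonempty (M.f.fiber s) := ⟨M.f.asFiber x⟩
  haveI : Nonempty (Spec ((Spec (CommRingCat.of R)).residueField s)) := inferInstanceAs (Nonempty (PrimeSpectrum _))
  haveI : Subsingleton (Spec ((Spec (CommRingCat.of R)).residueField s)) := inferInstanceAs (Subsingleton (PrimeSpectrum _))
  haveI : GeometricallyConnected (M.f.fiberToSpecResidueField s) :=
    MorphismProperty.pullback_snd (P := @GeometricallyConnected) M.f _ M.gc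
  haveI : Smooth (M.f.fiberToSpecResidueField s) := MorphismProperty.pullback_snd (P := @Smooth) M.f _ M.smooth
  haveI : ConnectedSpace (M.f.fiber s) := GeometricallyConnected.connectedSpace_of_subsingleton (M.f.fiberToSpecResidueField s)
  haveI : IsIntegral (M.f.fiber s) := Groth.Agent.H2.Rigid.GeomIrred.isIntegral_of_smooth (M.f.fiberToSpecResidueField s)
  rw [FlatMor.fibreDimAt, JacCrit.OverField.localDim_eq_of_irreducible (M.f.fiberToSpecResidueField s)]
  exact M.hdim s

/-- Differentials at a special point are cyclic. -/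
theorem exists_cyc [Algebra R C.functionField] (halg : algebraMap R C.functionField = algR fC)
    {N : Type u} [AddCommGroup N] [Module C.functionField N] [Module R N] [IsScalarTower R C.functionField N]
    (D : Derivation R C.functionField N) {x : M.X} (hx : x ∉ Set.range M.i) : ∃ ω, Cyc D (M.S x) ω := by
  obtain ⟨n, V, U, hV, hU, e, hxU, hst⟩ := Kaehler.SmoothChart.exists_std_chart M.f x
  have hn := (Kaehler.SmoothChart.fibreDimAt_of_chart hV hU e hst hxU).symm.trans (M.fibreDimAt_eq_one x)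
  obtain rfl : n = 1 := by exact_mod_cast hn
  have hV' : V = ⊤ := by
    refine top_le_iff.1 fun z _ => ?_
    have hcl : M.f x = closedPoint R := by
      have : (M.f x).asIdeal ≠ ⊥ := fun h => hx ((M.mem_range_i x).2 h)
      exact PrimeSpectrum.ext (eq_maximalIdeal ((M.f x).isPrime.isMaximal this))
    exact (IsLocalRing.specializes_closedPoint z).mem_open V.2 (hcl ▸ e hxU)
  subst hV'
  let φ : R →+* Γ(M.X, U) := (M.f.appLE ⊤ U e).hom.comp (Scheme.ΓSpecIso (CommRingCat.of R)).inv.hom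
  letI : Algebra R Γ(M.X, U) := φ.toAlgebra
  haveI : Algebra.IsStandardSmoothOfRelativeDimension 1 R Γ(M.X, U) := by
    have := (RingHom.isStandardSmoothOfRelativeDimension_respectsIso (n := 1)).2 _
      (Scheme.ΓSpecIso (CommRingCat.of R)).symm.commRingCatIsoToRingEquiv hst
    exact this
  haveI : Nonempty U := ⟨⟨x, hxU⟩⟩
  haveI : Nontrivial Γ(M.X, U) := by
    haveI := IsIntegral.component_integral (X := M.X) U
    infer_instance
  haveI : Algebra.IsStandardSmooth R Γ(M.X, U) := Algebra.IsStandardSmoothOfRelativeDimension.isStandardSmooth 1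
  haveI : Module.Free Γ(M.X, U) (Ω[Γ(M.X, U)⁄R]) := inferInstance
  have hrk : Module.rank Γ(M.X, U) (Ω[Γ(M.X, U)⁄R]) = 1 := by
    rw [Algebra.IsStandardSmoothOfRelativeDimension.rank_kaehlerDifferential 1]
    exact Nat.cast_one
  let b := Module.finBasisOfFinrankEq Γ(M.X, U) (Ω[Γ(M.X, U)⁄R]) (Module.finrank_eq_of_rank_eq (n := 1) (by rw [hrk]; exact Nat.cast_one.symm))
  let g : Γ(M.X, U) →+* C.functionField := (jx M.i M.hi x).comp (M.X.presheaf.germ U x hxU).hom
  letI : Algebra Γ(M.X, U) C.functionField := g.toAlgebra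
  haveI : IsScalarTower R Γ(M.X, U) C.functionField := .of_algebraMap_eq fun r => by
    rw [halg]
    refine (M.jx_baseHom x r).symm.trans (congrArg (jx M.i M.hi x) ?_)
    show M.X.presheaf.germ ⊤ x trivial (M.f.app ⊤ ((Scheme.ΓSpecIso (CommRingCat.of R)).inv r)) =
      M.X.presheaf.germ U x hxU (M.f.appLE ⊤ U e ((Scheme.ΓSpecIso (CommRingCat.of R)).inv r))
    rw [Scheme.Hom.appLE]
    exact (TopCat.Presheaf.germ_res_apply M.X.presheaf _ x hxU _).symm
  letI : Module Γ(M.X, U) N := Module.compHom N g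
  haveI : IsScalarTower Γ(M.X, U) C.functionField N := ⟨fun a c z => by
    rw [Algebra.smul_def, mul_smul]; rfl⟩
  haveI : IsScalarTower R Γ(M.X, U) N := ⟨fun r a z => by
    show g (r • a) • z = r • (g a • z)
    rw [Algebra.smul_def, map_mul, mul_smul, ← algebraMap_smul C.functionField r (g a • z),
      IsScalarTower.algebraMap_apply R Γ(M.X, U) C.functionField r]
    rfl⟩
  let ℓ := (D.compAlgebraMap Γ(M.X, U)).liftKaehlerDifferential
  have hℓ : ∀ a, ℓ (KaehlerDifferential.D R Γ(M.X, U) a) = D (g a) := fun a =>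
    Derivation.liftKaehlerDifferential_comp_D _ a
  refine ⟨ℓ (b 0), ?_, ?_⟩
  · have hg : ∀ u, g u ∈ M.S x := fun u => ⟨_, rfl⟩
    suffices key : ∀ v ∈ Submodule.span Γ(M.X, U) (Set.range (KaehlerDifferential.D R Γ(M.X, U))),
        ℓ v ∈ Lat D (M.S x) from key _ (by rw [KaehlerDifferential.span_range_derivation]; trivial)
    intro v hv
    induction hv using Submodule.span_induction with
    | mem v hv => obtain ⟨a, rfl⟩ := hv; rw [hℓ]; exact Lat.D_mem D (hg a)
    | zero => rw [map_zero]; exact zero_mem _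
    | add _ _ _ _ h1 h2 => rw [map_add]; exact add_mem h1 h2
    | smul c _ _ h1 => rw [map_smul]; exact Lat.smul_mem D (hg c) h1
  · have hgen : ∀ u, ∃ c, D (g u) = g c • ℓ (b 0) := fun u => by
      refine ⟨b.repr (KaehlerDifferential.D R Γ(M.X, U) u) 0, ?_⟩
      conv_lhs => rw [← hℓ, ← b.sum_repr (KaehlerDifferential.D R Γ(M.X, U) u), Fin.sum_univ_one, map_smul]
      rfl
    intro c hc
    letI := TopCat.Presheaf.algebra_section_stalk M.X.presheaf (⟨x, hxU⟩ : U)
    haveI := hU.isLocalization_stalk ⟨x, hxU⟩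
    obtain ⟨c, rfl⟩ := hc
    obtain ⟨⟨u, t⟩, et⟩ := IsLocalization.surj (hU.primeIdealOf ⟨x, hxU⟩).asIdeal.primeCompl c
    have ht := (IsLocalization.map_units (M.X.presheaf.stalk x) t).map (jx M.i M.hi x)
    obtain ⟨p, hp⟩ := hgen u
    obtain ⟨q, hq⟩ := hgen t.1
    have e2 : g t.1 * jx M.i M.hi x c = g u := by
      show jx M.i M.hi x _ * _ = jx M.i M.hi x _
      rw [← map_mul, mul_comm]; exact congrArg _ et
    obtain ⟨v, hv⟩ := IsLocalization.map_units (M.X.presheaf.stalk x) t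
    refine ⟨(g t.1)⁻¹ * (g p - jx M.i M.hi x c * g q), ⟨↑v⁻¹ * (M.X.presheaf.germ U x hxU p - c * M.X.presheaf.germ U x hxU q), ?_⟩, ?_⟩
    · rw [map_mul, map_sub, map_mul, map_units_inv, hv]; rfl
    · have h1 := D.leibniz (g t.1) (jx M.i M.hi x c)
      rw [e2, hp, hq, ← mul_smul] at h1
      rw [mul_smul, sub_smul, h1, add_sub_cancel_right, inv_smul_smul₀ (show g t.1 ≠ 0 from ht.ne_zero)]

end Mdl

end Groth.Agent.H58Aut
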