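import Groth.Agent.H58Aut.Chart
import Groth.Agent.Lib.ModelFibre.Centered
import Groth.Agent.Lib.SchImage.Integral

/-!
# Two models of a curve with a nonzero regular differential are the same
-/

set_option autoImplicit false
set_option linter.style.haveILetI false
set_option backward.isDefEq.respectTransparency false
set_option backward.isDefEq.respectTransparency.types false
universe u

open CategoryTheory CategoryTheory.Limits AlgebraicGeometry IsLocalRing Groth.Agent.Lib Groth.Agent.Lib.ModelFibre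
open Groth.Agent.Lib.ModelFibre.Stalk (baseHom)

noncomputable section

namespace Groth.Agent.H58Aut

variable {R : Type u} [CommRing R] [IsDomain R] [IsDiscreteValuationRing R] {C : Scheme.{u}} [IsIntegral C]
  {fC : C ⟶ Spec (CommRingCat.of (FractionRing R))}

namespace Mdl

variable (M : Mdl R C fC)

include M in
theorem dim_C : topologicalKrullDim C = 1 := by
  let g₀ : ↥(Spec (CommRingCat.of R)) := ⟨⊥, Ideal.isPrime_bot⟩
  have hr : Set.range M.i = M.f ⁻¹' {g₀} := by
    ext x
    rw [M.mem_range_i]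
    exact ⟨fun h => PrimeSpectrum.ext h, fun h => congrArg PrimeSpectrum.asIdeal h⟩
  rw [← M.hdim g₀, (Homeomorph.isHomeomorph (M.i.isOpenEmbedding.isEmbedding.toHomeomorph.trans
    ((Homeomorph.setCongr hr).trans (M.f.fiberHomeo g₀).symm))).topologicalKrullDim_eq]

theorem dim_stalk_generic (p : C) : ringKrullDim (M.X.presheaf.stalk (M.i p)) ≤ 1 := by
  rw [ringKrullDim_stalk_eq_coheight, coheight_eq_of_isOpenImmersion]
  have h := SmoothCurve.Stalk.coheight_le_topologicalKrullDim p
  rwa [M.dim_C] at h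

theorem dim_stalk_ξ : ringKrullDim (M.X.presheaf.stalk M.ξ) = 1 := by
  haveI := M.isDVR_ξ
  exact IsPrincipalIdealRing.ringKrullDim_eq_one _ (IsDiscreteValuationRing.not_isField _)

theorem not_dim_one {y : M.X} (hy : y ∉ Set.range M.i) (hne : y ≠ M.ξ) :
    ringKrullDim (M.X.presheaf.stalk y) ≠ 1 := by
  intro h
  rw [ringKrullDim_stalk_eq_coheight] at h
  have h1 := M.dim_stalk_ξ
  rw [ringKrullDim_stalk_eq_coheight] at h1
  have hlt : y < M.ξ := lt_of_le_not_ge (M.ξ_specializes hy) fun hle =>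
    hne ((M.ξ_specializes hy).antisymm hle).eq.symm
  have := Order.coheight_add_one_le hlt
  rw [WithBot.coe_eq_one] at h h1
  rw [h, h1] at this
  exact absurd this (by decide)

/-- A closed special point is not dominated by the generic point of the closed fibre. -/
theorem eq_ξ_of_dom {x : M.X} (hx : x ∉ Set.range M.i) (h : Dom (M.S x) (M.S M.ξ)) : x = M.ξ := by
  by_contra hne
  have hsp := M.ξ_specializes hx
  obtain ⟨q, hq⟩ : M.ξ ∈ Set.range (M.X.fromSpecStalk x) := by rw [Scheme.range_fromSpecStalk]; exact hsp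
  have hne' : q.asIdeal ≠ maximalIdeal _ := fun e => hne (by
    rw [← hq, show q = closedPoint _ from PrimeSpectrum.ext e]
    exact (Scheme.fromSpecStalk_closedPoint).symm)
  obtain ⟨a, ha, haq⟩ := SetLike.exists_of_lt (lt_of_le_of_ne (le_maximalIdeal q.isPrime.ne_top) hne')
  obtain ⟨v, hv⟩ := (NoContraction.isUnit_stalkSpecializes_iff hsp q hq a).2 haq
  obtain ⟨b, hb⟩ := h.2 (jx M.i M.hi x a) ⟨a, rfl⟩ ⟨↑v⁻¹, by rw [map_units_inv, hv, jx_specializes]⟩
  have hu : IsUnit a := IsUnit.of_mul_eq_one b (jx_injective M.i M.hi x (by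
    have h0 : jx M.i M.hi x a ≠ 0 := by
      rw [← jx_specializes M.i M.hi hsp, ← hv]; exact (v.isUnit.map _).ne_zero
    rw [map_mul, hb, mul_inv_cancel₀ h0, map_one]))
  exact ha hu

/-- Elements of a dominated closed point are constants modulo the uniformizer. -/
theorem const_of_dom (M' : Mdl R C fC) {y : M'.X} (hy : y ∉ Set.range M'.i) (hyc : IsClosed ({y} : Set M'.X))
    (h : Dom (M'.S y) (M.S M.ξ)) {c : C.functionField} (hc : c ∈ M'.S y) :
    ∃ (r : R) (b : C.functionField), b ∈ M.S M.ξ ∧ c = algR fC r + algR fC M.π * b := by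
  obtain ⟨a₀, rfl⟩ := hc
  obtain ⟨e, rfl⟩ := (M'.special_iff y).1 hy
  have hec : IsClosed ({e} : Set M'.Es) := by
    convert hyc.preimage M'.gs.continuous using 1
    ext z
    exact ⟨fun hz => congrArg _ hz, fun hz => M'.gs.isEmbedding.injective hz⟩
  obtain ⟨U, hU, heU, -⟩ := exists_isAffineOpen_mem_and_subset (show e ∈ (⊤ : M'.Es.Opens) from trivial)
  let φ : ResidueField R →+* Γ(M'.Es, U) := (Chart.chartHom M'.fs hU).hom
  have hφ : φ.FiniteType := by
    haveI : IsOpenImmersion hU.fromSpec := hU.isOpenImmersion_fromSpec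
    have : LocallyOfFiniteType (Spec.map (Chart.chartHom M'.fs hU)) := by
      rw [Chart.chartHom, Spec.map_preimage]; infer_instance
    exact (HasRingHomProperty.Spec_iff (P := @LocallyOfFiniteType)).1 this
  let q := (hU.primeIdealOf ⟨e, heU⟩).asIdeal
  haveI : q.IsMaximal := hU.primeIdealOf_isMaximal_of_isClosed ⟨e, heU⟩ hec
  letI : Algebra (ResidueField R) Γ(M'.Es, U) := φ.toAlgebra
  haveI : Algebra.FiniteType (ResidueField R) Γ(M'.Es, U) := hφ
  letI : Field (Γ(M'.Es, U) ⧸ q) := Ideal.Quotient.field q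
  haveI : Algebra.FiniteType (ResidueField R) (Γ(M'.Es, U) ⧸ q) :=
    Algebra.FiniteType.of_surjective (Ideal.Quotient.mkₐ (ResidueField R) q) Ideal.Quotient.mk_surjective
  haveI := finite_of_finite_type_of_isJacobsonRing (ResidueField R) (Γ(M'.Es, U) ⧸ q)
  letI := TopCat.Presheaf.algebra_section_stalk M'.Es.presheaf (⟨e, heU⟩ : U)
  haveI := hU.isLocalization_stalk ⟨e, heU⟩
  obtain ⟨⟨u, t⟩, hut⟩ := IsLocalization.surj q.primeCompl ((M'.gs.stalkMap e).hom a₀)
  obtain ⟨w, hw⟩ : ∃ w, t.1 * w - 1 ∈ q := by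
    obtain ⟨w, hw⟩ := Ideal.Quotient.exists_inv (I := q) (fun h0 => t.2 (Ideal.Quotient.eq_zero_iff_mem.1 h0))
    obtain ⟨w, rfl⟩ := Ideal.Quotient.mk_surjective w
    exact ⟨w, Ideal.Quotient.eq_zero_iff_mem.1 (by rw [map_sub, map_mul, map_one, hw, _root_.sub_self])⟩
  obtain ⟨P₀, hP₀, hP₀e⟩ := Algebra.IsIntegral.isIntegral (R := ResidueField R) (Ideal.Quotient.mk q (u * w))
  have hlift : P₀ ∈ Polynomial.lifts (residue R) := by
    rw [Polynomial.lifts_iff_coeff_lifts]; exact fun n => residue_surjective _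
  obtain ⟨P, hP, -, hPm⟩ := Polynomial.lifts_and_degree_eq_and_monic hlift hP₀
  have hmax : P.eval₂ (baseHom M'.f (M'.gs e)) a₀ ∈ maximalIdeal (M'.X.presheaf.stalk (M'.gs e)) := by
    rw [mem_maximalIdeal, mem_nonunits_iff]
    intro hu
    have hu1 := (hu.map (M'.gs.stalkMap e).hom).map (residue (M'.Es.presheaf.stalk e))
    rw [Polynomial.hom_eval₂, show (M'.gs.stalkMap e).hom.comp (baseHom M'.f (M'.gs e)) = (baseHom M'.fs e).comp (residue R)
      from RingHom.ext fun r => M'.algebraMap_residue_eq e r, ← Polynomial.eval₂_map, hP, Polynomial.hom_eval₂] at hu1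
    have hres : residue (M'.Es.presheaf.stalk e) ((M'.gs.stalkMap e).hom a₀) =
        residue (M'.Es.presheaf.stalk e) (algebraMap Γ(M'.Es, U) _ (u * w)) := by
      have hq0 : residue (M'.Es.presheaf.stalk e) (algebraMap Γ(M'.Es, U) _ (t.1 * w - 1)) = 0 :=
        (residue_eq_zero_iff _).2 (((IsLocalization.AtPrime.to_map_mem_maximal_iff _ q _)).2 hw)
      rw [map_sub, map_sub, map_one, map_one, sub_eq_zero, map_mul, map_mul] at hq0
      rw [map_mul, ← hut, map_mul, map_mul, _root_.mul_assoc, hq0, _root_.mul_one]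
    rw [hres, show (residue (M'.Es.presheaf.stalk e)).comp (baseHom M'.fs e) =
      ((residue (M'.Es.presheaf.stalk e)).comp (algebraMap Γ(M'.Es, U) _)).comp φ from by
        rw [RingHom.comp_assoc, Chart.baseHom_eq M'.fs hU heU]; rfl,
      show residue (M'.Es.presheaf.stalk e) (algebraMap Γ(M'.Es, U) _ (u * w)) =
        ((residue (M'.Es.presheaf.stalk e)).comp (algebraMap Γ(M'.Es, U) _)) (u * w) from rfl,
      ← Polynomial.hom_eval₂] at hu1
    refine hu1.ne_zero ((residue_eq_zero_iff _).2 (((IsLocalization.AtPrime.to_map_mem_maximal_iff _ q _)).2 ?_))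
    rw [← Ideal.Quotient.eq_zero_iff_mem, Polynomial.hom_eval₂]
    exact hP₀e
  obtain ⟨a, ha⟩ := h.1 (show jx M'.i M'.hi (M'.gs e) a₀ ∈ M'.S (M'.gs e) from ⟨a₀, rfl⟩)
  obtain ⟨r, b, hb⟩ := M.exists_sub_mem a ⟨P, hPm, by
    rw [mem_maximalIdeal, mem_nonunits_iff]
    rintro ⟨v, hv⟩
    have he : jx M.i M.hi M.ξ (P.eval₂ (baseHom M.f M.ξ) a) = jx M'.i M'.hi _ (P.eval₂ (baseHom M'.f (M'.gs e)) a₀) := by
      rw [Polynomial.hom_eval₂, Polynomial.hom_eval₂, ha]
      congr 1
      exact RingHom.ext fun r => (M.jx_baseHom _ r).trans (M'.jx_baseHom _ r).symm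
    obtain ⟨b, hb⟩ := h.2 _ ⟨P.eval₂ (baseHom M'.f (M'.gs e)) a₀, rfl⟩ ⟨↑v⁻¹, by rw [map_units_inv, hv, he]⟩
    refine hmax (IsUnit.of_mul_eq_one b (jx_injective M'.i M'.hi _ ?_))
    rw [map_mul, hb, mul_inv_cancel₀ (he ▸ hv ▸ ((v.isUnit).map _).ne_zero), map_one]⟩
  refine ⟨r, jx M.i M.hi M.ξ b, ⟨b, rfl⟩, ?_⟩
  rw [← ha, hb, map_add, map_mul, M.jx_baseHom, M.jx_baseHom]

section Lattice

variable [Algebra R C.functionField] {N : Type u} [AddCommGroup N] [Module C.functionField N] [Module R N]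
  [IsScalarTower R C.functionField N] (D : Derivation R C.functionField N)

/-- Regular on the generic fibre. -/
def Good (z : N) : Prop := ∀ p : C, z ∈ Lat D (algebraMap (C.presheaf.stalk p) C.functionField).range

theorem Good.smul {z : N} (hz : Good D z) {c : C.functionField}
    (hc : ∀ p : C, c ∈ (algebraMap (C.presheaf.stalk p) C.functionField).range) : Good D (c • z) :=
  fun p => Lat.smul_mem D (hc p) (hz p)

omit [Algebra R C.functionField] in
theorem algR_inv_mem (p : C) : (algR fC M.π)⁻¹ ∈ (algebraMap (C.presheaf.stalk p) C.functionField).range := by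
  refine ⟨baseHom fC p (algebraMap R (FractionRing R) M.π)⁻¹, ?_⟩
  rw [RegularExt.algebraMap_baseHom, map_inv₀]
  rfl

theorem step (halg : algebraMap R C.functionField = algR fC) (M' : Mdl R C fC) {y : M'.X}
    (hy : y ∉ Set.range M'.i) (hyc : IsClosed ({y} : Set M'.X)) (hne : y ≠ M'.ξ)
    (h : Dom (M'.S y) (M.S M.ξ)) {z : N} (hz : Good D z) (hzη : z ∈ Lat D (M'.S M'.ξ)) :
    (algR fC M.π)⁻¹ • z ∈ Lat D (M.S M.ξ) := by
  obtain ⟨ω, hω⟩ := M'.exists_cyc halg D hy
  let ι := {y' : M'.X // y' ⤳ y ∧ ringKrullDim (M'.X.presheaf.stalk y') = 1}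
  haveI : Nonempty ι := ⟨⟨M'.ξ, M'.ξ_specializes hy, M'.dim_stalk_ξ⟩⟩
  have hzy : z ∈ Lat D (M'.S y) := by
    refine hω.mem_of_forall D (fun i : ι => M'.S i.1) (fun i => M'.cyc_of_specializes hω i.2.1)
      (fun c hc => ?_) fun i => ?_
    · obtain ⟨c, rfl⟩ := M'.jHom_surjective c
      obtain ⟨a, ha⟩ := RefHull.Generic.mem_range_of_codim_one M'.normalX y c fun y' h1 h2 => by
        obtain ⟨a, ha⟩ := hc ⟨y', h1, h2⟩
        exact ⟨a, (jHom M'.i M'.hi).injective ha⟩
      exact ⟨a, congrArg (jHom M'.i M'.hi) ha⟩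
    · obtain ⟨y', h1, h2⟩ := i
      by_cases hy' : y' ∈ Set.range M'.i
      · obtain ⟨p, rfl⟩ := hy'
        show z ∈ Lat D (sub M'.i M'.hi (M'.i p))
        rw [sub_of_isOpenImmersion]
        exact hz p
      · by_cases hξ : y' = M'.ξ
        · subst hξ; exact hzη
        · exact absurd h2 (M'.not_dim_one hy' hξ)
  obtain ⟨w, hw, rfl⟩ := Lat.le_smul D h.1 M.π (fun a ha => by
    rw [halg]; exact M.const_of_dom M' hy hyc h ha) hzy
  rw [halg, inv_smul_smul₀ (algR_ne_zero M.hπ.ne_zero)]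
  exact hw

end Lattice

/-- The scheme of the graph. -/
abbrev graphHom (M' : Mdl R C fC) : C ⟶ pullback M.f M'.f :=
  pullback.lift M.i M'.i (M.sq.w.trans M'.sq.w.symm)

instance quasiCompact_graphHom (M' : Mdl R C fC) : QuasiCompact (M.graphHom M') := by
  haveI : QuasiCompact (M.graphHom M' ≫ pullback.fst M.f M'.f) := by
    rw [pullback.lift_fst]; infer_instance
  exact QuasiCompact.of_comp _ (pullback.fst M.f M'.f)

instance integral_graph (M' : Mdl R C fC) : IsIntegral (M.graphHom M').image :=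
  SchImage.Integral.isIntegral _

/-- The first projection of the graph. -/
abbrev gp (M' : Mdl R C fC) : (M.graphHom M').image ⟶ M.X := (M.graphHom M').imageι ≫ pullback.fst _ _

/-- The second projection of the graph. -/
abbrev gq (M' : Mdl R C fC) : (M.graphHom M').image ⟶ M'.X := (M.graphHom M').imageι ≫ pullback.snd _ _

theorem toImage_gp (M' : Mdl R C fC) : (M.graphHom M').toImage ≫ M.gp M' = M.i := by
  rw [← Category.assoc, Scheme.Hom.toImage_imageι, pullback.lift_fst]

theorem toImage_gq (M' : Mdl R C fC) : (M.graphHom M').toImage ≫ M.gq M' = M'.i := by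
  rw [← Category.assoc, Scheme.Hom.toImage_imageι, pullback.lift_snd]

theorem hiΓ (M' : Mdl R C fC) :
    (M.graphHom M').toImage (genericPoint C) = genericPoint (M.graphHom M').image := by
  refine ((genericPoint_spec C).image (M.graphHom M').toImage.continuous).eq ?_
  rw [Set.image_univ, (M.graphHom M').toImage.denseRange.closure_range]
  exact genericPoint_spec _

theorem gp_generic (M' : Mdl R C fC) : M.gp M' (genericPoint (M.graphHom M').image) = genericPoint M.X := by
  rw [← M.hiΓ M', ← Scheme.Hom.comp_apply, toImage_gp, M.hi]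

theorem gp_bij (M' : Mdl R C fC) :
    Function.Bijective ((M.gp M').stalkMap (genericPoint (M.graphHom M').image)) := by
  rw [← M.hiΓ M']
  let t := (M.graphHom M').toImage
  haveI : IsOpenImmersion (t ≫ M.gp M') := by rw [M.toImage_gp]; infer_instance
  have hb := ConcreteCategory.bijective_of_isIso ((t ≫ M.gp M').stalkMap (genericPoint C))
  rw [Scheme.Hom.stalkMap_comp] at hb
  have hinj : Function.Injective (t.stalkMap (genericPoint C)) := by
    intro a b hab
    obtain ⟨a, rfl⟩ := (ConcreteCategory.bijective_of_isIso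
      ((M.graphHom M').image.presheaf.stalkCongr (.of_eq (M.hiΓ M').symm)).hom).2 a
    obtain ⟨b, rfl⟩ := (ConcreteCategory.bijective_of_isIso
      ((M.graphHom M').image.presheaf.stalkCongr (.of_eq (M.hiΓ M').symm)).hom).2 b
    exact congrArg _ ((jHom t (M.hiΓ M')).injective hab)
  have hb : Function.Bijective ((t.stalkMap (genericPoint C)).hom ∘ ((M.gp M').stalkMap (t (genericPoint C))).hom) := hb
  exact ⟨Function.Injective.of_comp hb.1, Function.Surjective.of_comp_left hb.2 hinj⟩

theorem dom_gp (M' : Mdl R C fC) (a : (M.graphHom M').image) :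
    Dom (M.S (M.gp M' a)) (sub (M.graphHom M').toImage (M.hiΓ M') a) :=
  dom_map _ _ M.i M.hi _ (M.toImage_gp M') a

theorem dom_gq (M' : Mdl R C fC) (a : (M.graphHom M').image) :
    Dom (M'.S (M.gq M' a)) (sub (M.graphHom M').toImage (M.hiΓ M') a) :=
  dom_map _ _ M'.i M'.hi _ (M.toImage_gq M') a

theorem f_gp (M' : Mdl R C fC) (a : (M.graphHom M').image) : M'.f (M.gq M' a) = M.f (M.gp M' a) := by
  rw [← Scheme.Hom.comp_apply, ← Scheme.Hom.comp_apply, Category.assoc, Category.assoc, pullback.condition]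

theorem gq_special (M' : Mdl R C fC) {a : (M.graphHom M').image} (h : M.gp M' a ∉ Set.range M.i) :
    M.gq M' a ∉ Set.range M'.i := by
  rw [M'.mem_range_i, M.f_gp M' a, ← M.mem_range_i]
  exact h

/-- Over the generic point of one closed fibre sits a point of the other scheme dominated by it. -/
theorem exists_dom (M' : Mdl R C fC) : ∃ y : M'.X, y ∉ Set.range M'.i ∧ Dom (M'.S y) (M.S M.ξ) := by
  obtain ⟨a, ha⟩ := (ZMTStein.surjective_of_generic (M.gp M') (M.gp_generic M')).surj M.ξ
  refine ⟨M.gq M' a, M.gq_special M' (ha.symm ▸ M.ξ_notMem), ?_⟩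
  have h1 := M.dom_gp M' a
  rw [ha] at h1
  rw [Dom.eq_of_valuation h1 M.S_ξ_total]
  exact M.dom_gq M' a

/-- The valuations of the two closed fibres agree. -/
theorem S_ξ_eq [Algebra R C.functionField] (halg : algebraMap R C.functionField = algR fC)
    {N : Type u} [AddCommGroup N] [Module C.functionField N] [Module R N] [IsScalarTower R C.functionField N]
    (D : Derivation R C.functionField N) (hD : ∃ z : N, z ≠ 0 ∧ Good D z) (M' : Mdl R C fC) :
    M'.S M'.ξ = M.S M.ξ := by
  obtain ⟨y, hy, hdy⟩ := M.exists_dom M'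
  by_cases hyξ : y = M'.ξ
  · subst hyξ; exact Dom.eq_of_valuation hdy M'.S_ξ_total
  obtain ⟨x, hx, hdx⟩ := M'.exists_dom M
  by_cases hxξ : x = M.ξ
  · subst hxξ; exact (Dom.eq_of_valuation hdx M.S_ξ_total).symm
  exfalso
  have hyc := M'.isClosed_of_ne_ξ hy hyξ
  have hxc := M.isClosed_of_ne_ξ hx hxξ
  obtain ⟨z, hz0, hz⟩ := hD
  obtain ⟨ω, hω⟩ := M.exists_cyc halg D M.ξ_notMem
  by_cases hω0 : ω = 0
  · -- all differentials vanish
    obtain ⟨ω', hω'⟩ := M.exists_cyc halg D hx
    have hgen : Cyc D (M.S (genericPoint M.X)) ω := M.cyc_of_specializes hω (genericPoint_specializes M.ξ)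
    have hmem : z ∈ Lat D (M.S (genericPoint M.X)) := by
      rw [show M.S (genericPoint M.X) = sub M.i M.hi (M.i (genericPoint C)) from by rw [M.hi],
        sub_of_isOpenImmersion]
      exact hz _
    obtain ⟨c, -, hc⟩ := hgen.exists_smul D hmem
    exact hz0 (by rw [hc, hω0, smul_zero])
  have hgen : Cyc D (M.S (genericPoint M.X)) ω := M.cyc_of_specializes hω (genericPoint_specializes M.ξ)
  have hmem : z ∈ Lat D (M.S (genericPoint M.X)) := by
    rw [show M.S (genericPoint M.X) = sub M.i M.hi (M.i (genericPoint C)) from by rw [M.hi],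
      sub_of_isOpenImmersion]
    exact hz _
  obtain ⟨c, -, hc⟩ := hgen.exists_smul D hmem
  obtain ⟨n₀, hn₀⟩ := M.exists_pow_mul c
  let p := algR fC M.π
  have hp0 : p ≠ 0 := algR_ne_zero M.hπ.ne_zero
  have hp : ∀ q : C, p ∈ (algebraMap (C.presheaf.stalk q) C.functionField).range := fun q =>
    ⟨baseHom fC q (algebraMap R (FractionRing R) M.π), RegularExt.algebraMap_baseHom fC q _⟩
  let z₀ := p ^ n₀ • z
  have hz₀ : Good D z₀ := hz.smul D fun q => Subring.pow_mem _ (hp q) n₀
  have hz₀ξ : z₀ ∈ Lat D (M.S M.ξ) := by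
    show p ^ n₀ • z ∈ _
    rw [hc, ← mul_smul]
    exact Lat.smul_mem D hn₀ hω.mem
  have key : ∀ n : ℕ, Good D (p⁻¹ ^ (2 * n) • z₀) ∧ p⁻¹ ^ (2 * n) • z₀ ∈ Lat D (M.S M.ξ) := by
    intro n
    induction n with
    | zero => simpa using And.intro hz₀ hz₀ξ
    | succ n ih =>
      obtain ⟨g1, g2⟩ := ih
      have h1 : (algR fC M'.π)⁻¹ • (p⁻¹ ^ (2 * n) • z₀) ∈ Lat D (M'.S M'.ξ) :=
        M'.step D halg M hx hxc hxξ hdx g1 g2
      have g1' : Good D ((algR fC M'.π)⁻¹ • (p⁻¹ ^ (2 * n) • z₀)) := g1.smul D (M'.algR_inv_mem)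
      have h2 := M.step D halg M' hy hyc hyξ hdy g1' h1
      have e : (algR fC M.π)⁻¹ • (algR fC M'.π)⁻¹ • (p⁻¹ ^ (2 * n) • z₀) = p⁻¹ ^ (2 * (n + 1)) • z₀ := by
        rw [← mul_smul, ← mul_smul]
        congr 1
        show p⁻¹ * (p⁻¹) * _ = _
        ring
      exact ⟨e ▸ g1'.smul D (M.algR_inv_mem), e ▸ h2⟩
  have h0 : z₀ = 0 := hω.eq_zero_of_divisible D hp0 M.sep_ξ (e := fun n => 2 * n) (fun n => by omega)
    (M.algR_mem _ _) (fun n => (key n).2)
  exact hz0 ((smul_eq_zero.1 h0).resolve_left (pow_ne_zero _ hp0))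

variable [Algebra R C.functionField] (halg : algebraMap R C.functionField = algR fC)
  {N : Type u} [AddCommGroup N] [Module C.functionField N] [Module R N] [IsScalarTower R C.functionField N]
  (D : Derivation R C.functionField N) (hD : ∃ z : N, z ≠ 0 ∧ Good D z)

include halg hD in
theorem isIso_gp (M' : Mdl R C fC) : IsIso (M.gp M') := by
  refine Centered.isIso_of_finite (M.gp M') M.normalX (M.gp_generic M') (M.gp_bij M') fun x => ?_
  by_cases hd : ringKrullDim (M.X.presheaf.stalk x) ≤ 1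
  · exact (Centered.subsingleton_fibre (M.gp M') M.normalX (M.gp_generic M') (M.gp_bij M') hd).finite
  have hx : x ∉ Set.range M.i := by
    rintro ⟨p, rfl⟩; exact hd (M.dim_stalk_generic p)
  have hxξ : x ≠ M.ξ := fun h => hd (h ▸ M.dim_stalk_ξ.le)
  by_contra hinf
  obtain ⟨e, e', hee, hne⟩ := Centered.exists_specializes_of_infinite (M.gp M') x hinf
  let a := (M.gp M').fiberι x e
  let a' := (M.gp M').fiberι x e'
  have ha : M.gp M' a = x := ((M.gp M').range_fiberι x).le ⟨e, rfl⟩
  have ha' : M.gp M' a' = x := ((M.gp M').range_fiberι x).le ⟨e', rfl⟩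
  have haa : a ⤳ a' := hee.map ((M.gp M').fiberι x).continuous
  have hane : a ≠ a' := fun h => hne (((M.gp M').fiberι x).isEmbedding.injective h)
  by_cases hq : M.gq M' a = M'.ξ
  · have h1 := M.dom_gq M' a
    rw [hq] at h1
    have h2 := M.dom_gp M' a
    rw [ha, ← Dom.eq_of_valuation h1 M'.S_ξ_total, M.S_ξ_eq halg D hD M'] at h2
    exact hxξ (M.eq_ξ_of_dom hx h2)
  have hqs := M.gq_special M' (a := a) (ha.symm ▸ hx)
  have hqc := M'.isClosed_of_ne_ξ hqs hq
  have hq' : M.gq M' a' = M.gq M' a :=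
    Set.mem_singleton_iff.1 (hqc.closure_eq.le (haa.map (M.gq M').continuous).mem_closure)
  have hxc := M.isClosed_of_ne_ξ hx hxξ
  let I := Scheme.IdealSheafData.vanishingIdeal ⟨({x} : Set M.X), hxc⟩
  have hrange : Set.range I.subschemeι = {x} := by
    rw [Scheme.IdealSheafData.range_subschemeι]
    exact Scheme.IdealSheafData.coe_support_vanishingIdeal _
  haveI : LocallyQuasiFinite (I.subschemeι ≫ M.f) := .of_finite_preimage_singleton _ fun s => by
    have : Subsingleton I.subscheme := ⟨fun u v => I.subschemeι.isEmbedding.injective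
      ((Set.mem_singleton_iff.1 (hrange.le ⟨u, rfl⟩)).trans (Set.mem_singleton_iff.1 (hrange.le ⟨v, rfl⟩)).symm)⟩
    exact (Set.subsingleton_of_subsingleton).finite
  let i₂ := pullback.snd I.subschemeι (pullback.fst M.f M'.f)
  let h : pullback I.subschemeι (pullback.fst M.f M'.f) ⟶ M'.X := i₂ ≫ pullback.snd M.f M'.f
  haveI : LocallyQuasiFinite h := by
    have e0 : h = (pullbackRightPullbackFstIso M.f M'.f I.subschemeι).hom ≫ pullback.snd (I.subschemeι ≫ M.f) M'.f :=
      (pullbackRightPullbackFstIso_hom_snd _ _ _).symm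
    rw [e0]; infer_instance
  have hmem : ∀ b : (M.graphHom M').image, M.gp M' b = x → (M.graphHom M').imageι b ∈ Set.range i₂ := fun b hb => by
    rw [Scheme.Pullback.range_snd, hrange]
    exact hb
  obtain ⟨w, hw⟩ := hmem a ha
  obtain ⟨w', hw'⟩ := hmem a' ha'
  have hww : w ⤳ w' := by
    rw [← i₂.isEmbedding.isInducing.specializes_iff, hw, hw']
    exact haa.map (M.graphHom M').imageι.continuous
  have hh : h w = h w' := by
    show pullback.snd M.f M'.f (i₂ w) = pullback.snd M.f M'.f (i₂ w')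
    rw [hw, hw']
    exact hq'.symm
  have hd' := h.isDiscrete_preimage_singleton (h w)
  haveI := isDiscrete_iff_discreteTopology.mp hd'
  have : (⟨w, rfl⟩ : ↑(h ⁻¹' {h w})) ⤳ ⟨w', hh.symm⟩ := (subtype_specializes_iff _ _).2 hww
  have hweq : w = w' := congrArg Subtype.val this.eq
  exact hane ((M.graphHom M').imageι.isEmbedding.injective (by rw [← hw, ← hw', hweq]))

include halg hD in
/-- The identity of the generic fibre extends to a morphism of models. -/
theorem exists_hom (M' : Mdl R C fC) : ∃ e : M.X ⟶ M'.X, e ≫ M'.f = M.f ∧ M.i ≫ e = M'.i := by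
  haveI := M.isIso_gp halg D hD M'
  refine ⟨inv (M.gp M') ≫ M.gq M', ?_, ?_⟩
  · rw [Category.assoc, IsIso.inv_comp_eq, Category.assoc, Category.assoc, pullback.condition]
  · rw [← M.toImage_gp M', Category.assoc, IsIso.hom_inv_id_assoc, M.toImage_gq M']

omit [Algebra R C.functionField] in
/-- Morphisms out of a model are determined on the generic fibre. -/
theorem hom_ext {Y : Scheme.{u}} [Y.IsSeparated] {e e' : M.X ⟶ Y} (h : M.i ≫ e = M.i ≫ e') : e = e' := by
  haveI : IsDominant M.i := ⟨by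
    rw [DenseRange, dense_iff_closure_eq]
    refine Set.eq_univ_of_univ_subset ((genericPoint_spec M.X).ge.trans (closure_mono ?_))
    rw [Set.singleton_subset_iff]
    exact ⟨_, M.hi⟩⟩
  exact ext_of_isDominant M.i h

end Mdl

end Groth.Agent.H58Aut
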