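import Groth.Agent.H58Aut.Forms
import Groth.Agent.H56.DimBaseChange

/-!
# Field-valued fibres of a smooth family of curves
-/

set_option autoImplicit false
set_option linter.style.haveILetI false
set_option backward.isDefEq.respectTransparency false
set_option backward.isDefEq.respectTransparency.types false
universe u

open CategoryTheory CategoryTheory.Limits AlgebraicGeometry IsLocalRing Groth.Agent.Lib

noncomputable section

namespace Groth.Agent.H58Aut

variable {X S : Scheme.{u}} (f : X ⟶ S) [IsProper f] [Smooth f]
  {L : Type u} [Field L] {X' : Scheme.{u}} {q : X' ⟶ Spec (CommRingCat.of L)}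
  {σ : Spec (CommRingCat.of L) ⟶ S} {g' : X' ⟶ X}

theorem genus_of_fibres {n : ℕ} (hgen : ∀ s : S,
    letI : (f.fiber s).Over (Spec (S.residueField s)) := ⟨f.fiberToSpecResidueField s⟩
    Curv2.genus (S.residueField s) (f.fiber s) = n) (hsq : IsPullback g' q f σ) :
    letI : X'.Over (Spec (CommRingCat.of L)) := ⟨q⟩
    Curv2.genus L X' = n := by
  rw [genus_eq_fiberRank f q σ g' hsq]
  generalize σ (closedPoint L) = s
  rw [← hgen s]
  refine Eq.symm ((genus_eq_fiberRank f (L := S.residueField s) (f.fiberToSpecResidueField s)
    (S.fromSpecResidueField s) (f.fiberι s) (IsPullback.of_hasPullback _ _)).trans ?_)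
  exact congrArg _ (Scheme.fromSpecResidueField_apply _ _)

theorem dim_of_fibres (hdim : ∀ s : S, topologicalKrullDim ↥(f.fiber s) = 1) (hsq : IsPullback g' q f σ) :
    topologicalKrullDim ↥X' = 1 := by
  let s := σ (closedPoint L)
  let b : Spec (CommRingCat.of L) ⟶ Spec (S.residueField s) :=
    Spec.map (S.descResidueField (Scheme.stalkClosedPointTo σ))
  have hb : b ≫ S.fromSpecResidueField s = σ :=
    Scheme.descResidueField_stalkClosedPointTo_fromSpecResidueField L S σ
  have h : IsPullback g' q f (b ≫ S.fromSpecResidueField s) := hb.symm ▸ hsq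
  let l : X' ⟶ f.fiber s := pullback.lift g' (q ≫ b) (by rw [h.w, Category.assoc])
  have hl : IsPullback l q (f.fiberToSpecResidueField s) b := by
    refine IsPullback.of_right ?_ (pullback.lift_snd _ _ _) (IsPullback.of_hasPullback f (S.fromSpecResidueField s))
    rw [show l ≫ pullback.fst f (S.fromSpecResidueField s) = g' from pullback.lift_fst _ _ _]
    exact h
  rw [← hdim s]
  exact H56.DimBaseChange.topologicalKrullDim_baseChange (k := S.residueField s) (K := L) b
    (f.fiberToSpecResidueField s) q l hl

theorem connected_of_fibres [GeometricallyConnected f] (hsq : IsPullback g' q f σ) : ConnectedSpace X' := by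
  haveI : GeometricallyConnected q := MorphismProperty.of_isPullback (P := @GeometricallyConnected) hsq ‹_›
  exact GeometricallyConnected.connectedSpace_of_subsingleton q

end Groth.Agent.H58Aut
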