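import Groth.Agent.H58Aut.Extend
import Groth.Agent.S1612
import Groth.Agent.Lib.CurveFF.SmoothBC
import Groth.Agent.Lib.CurveFF.OmegaDer
import Groth.Agent.Lib.PicGen.OpenUFD
import Groth.Agent.Lib.Exchange.NearFibre
import Groth.Agent.Lib.ExchangeFP29.FieldPoint

/-!
# Isomorphisms of generic fibres of smooth curves of positive genus extend
-/

set_option autoImplicit false
set_option linter.style.haveILetI false
set_option backward.isDefEq.respectTransparency false
set_option backward.isDefEq.respectTransparency.types false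
universe u

open CategoryTheory CategoryTheory.Limits AlgebraicGeometry IsLocalRing Opposite Groth.Agent.Lib Groth.Agent.Lib.ModelFibre
open Groth.Agent.Lib.ModelFibre.Stalk (baseHom)

noncomputable section

namespace Groth.Agent.H58Aut

attribute [local instance] Curv2.stalkAlgebra

/-- The genus of a field-valued fibre. -/
theorem genus_eq_fiberRank {X S : Scheme.{u}} (f : X ⟶ S) [IsProper f] [Flat f] [LocallyOfFinitePresentation f]
    {L : Type u} [Field L] {X' : Scheme.{u}} (q : X' ⟶ Spec (CommRingCat.of L))
    (σ : Spec (CommRingCat.of L) ⟶ S) (g' : X' ⟶ X) (hsq : IsPullback g' q f σ) :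
    letI : X'.Over (Spec (CommRingCat.of L)) := ⟨q⟩
    Curv2.genus L X' = CohIII.fiberRank f (Coh.structureModule X) 1 (σ (closedPoint L)) := by
  letI : X'.Over (Spec (CommRingCat.of L)) := ⟨q⟩
  have hO := PicLoc.isInvertible_structureModule X
  have hO' := TensorMod.LocFree.of_rank (TensorMod.LocFree.of_isInvertible hO)
  haveI : (Coh.structureModule X).IsQuasicoherent := TensorMod.QCohInv.isQCoh_of_isInvertible hO
  have h := ExchangeFP29.FieldPoint.finrank_HH_eq f (Coh.structureModule X)
    (TensorMod.FPConv.isFP_of_isFinLocFree hO')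
    (_root_.ZarCoh.Exchange.NearFibre.isFlatOver_of_isFinLocFree _ hO') q σ g' hsq 1
  rw [← h]
  exact (Curves.Euler.hdim_eq_of_iso (k := L) (X := X') (PicLoc.pullbackStructureIso g') 1).symm

variable {R : Type u} [CommRing R] [IsDomain R] [IsDiscreteValuationRing R] {C : Scheme.{u}} [IsIntegral C]
  {fC : C ⟶ Spec (CommRingCat.of (FractionRing R))}

theorem genus_C (M : Mdl R C fC) {n : ℕ}
    (hgen : ∀ s : ↥(Spec (CommRingCat.of R)),
      letI : (M.f.fiber s).Over (Spec ((Spec (CommRingCat.of R)).residueField s)) := ⟨M.f.fiberToSpecResidueField s⟩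
      Curv2.genus ((Spec (CommRingCat.of R)).residueField s) (M.f.fiber s) = n) :
    letI : C.Over (Spec (CommRingCat.of (FractionRing R))) := ⟨fC⟩
    Curv2.genus (FractionRing R) C = n := by
  rw [genus_eq_fiberRank M.f fC _ M.i M.sq]
  generalize (Spec.map (CommRingCat.ofHom (algebraMap R (FractionRing R)))) (closedPoint (FractionRing R)) = s
  rw [← hgen s]
  refine Eq.symm ((genus_eq_fiberRank M.f (L := (Spec (CommRingCat.of R)).residueField s) (M.f.fiberToSpecResidueField s)
    ((Spec (CommRingCat.of R)).fromSpecResidueField s) (M.f.fiberι s) (IsPullback.of_hasPullback _ _)).trans ?_)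
  exact congrArg _ (Scheme.fromSpecResidueField_apply _ _)

/-- Isomorphic generic fibres of positive genus give isomorphic models. -/
theorem exists_extend (M M' : Mdl R C fC) {n : ℕ} (hn : 1 ≤ n)
    (hgen : ∀ s : ↥(Spec (CommRingCat.of R)),
      letI : (M.f.fiber s).Over (Spec ((Spec (CommRingCat.of R)).residueField s)) := ⟨M.f.fiberToSpecResidueField s⟩
      Curv2.genus ((Spec (CommRingCat.of R)).residueField s) (M.f.fiber s) = n) :
    ∃ e : M.X ≅ M'.X, e.hom ≫ M'.f = M.f ∧ M.i ≫ e.hom = M'.i := by
  letI : C.Over (Spec (CommRingCat.of (FractionRing R))) := ⟨fC⟩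
  let c := C ↘ Spec (CommRingCat.of (FractionRing R))
  haveI : IsProper c := MorphismProperty.of_isPullback (P := @IsProper) M.sq M.proper
  haveI : Smooth c := MorphismProperty.of_isPullback (P := @Smooth) M.sq M.smooth
  haveI : GeometricallyConnected c := MorphismProperty.of_isPullback (P := @GeometricallyConnected) M.sq M.gc
  have hdim : topologicalKrullDim C = 1 := M.dim_C
  have h0 := CurveFF.finrank_h0_eq_one (FractionRing R) C
  have hfacts := (Groth.Agent.S1612.result (FractionRing R) C ⟨‹_›, ‹_›, ‹_›, hdim⟩ h0).1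
  rw [genus_C M hgen] at hfacts
  let F := Omega.sheaf c
  letI : Algebra R C.functionField := (algR fC).toAlgebra
  let N : Type u := F.presheaf.stalk (genericPoint C)
  letI : Module C.functionField N := inferInstanceAs (Module (C.presheaf.stalk (genericPoint C)) (F.presheaf.stalk (genericPoint C)))
  letI : Module R N := Module.compHom N (algR fC)
  haveI : IsScalarTower R C.functionField N := .of_algebraMap_smul fun _ _ => rfl
  let dd := OmegaSh.dOmega c
  let Dη : C.functionField → N := fun a => CurveFF.OmegaDer.stalkD dd (genericPoint C) a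
  have hadd : ∀ a b, Dη (a + b) = Dη a + Dη b := fun a b => CurveFF.OmegaDer.stalkD_add dd _ a b
  have hmul : ∀ a b : C.functionField, Dη (a * b) = a • Dη b + b • Dη a :=
    fun a b => CurveFF.OmegaDer.stalkD_mul dd _ a b
  have hconst : ∀ r : R, Dη (algR fC r) = 0 := fun r =>
    CurveFF.OmegaDer.stalkD_const dd (genericPoint C) (algebraMap R (FractionRing R) r)
  let D : Derivation R C.functionField N := Derivation.mk'
    { toFun := Dη
      map_add' := hadd
      map_smul' := fun r a => by
        show Dη (r • a) = algR fC r • Dη a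
        rw [Algebra.smul_def]
        show Dη (algR fC r * a) = _
        rw [hmul, hconst, smul_zero, add_zero] }
    hmul
  have hD : ∃ z : N, z ≠ 0 ∧ Mdl.Good D z := by
    letI := Curves.GlobalSections.secModule (FractionRing R) F
    haveI : Nontrivial (F.val.obj (op ⊤) : Type u) := by
      haveI : Nontrivial (Coh.HH C F 0) := Module.nontrivial_of_finrank_pos (R := FractionRing R) (by rw [hfacts]; omega)
      exact (Curves.GlobalSections.h0Linear (FractionRing R) F).symm.toEquiv.nontrivial
    obtain ⟨s, hs⟩ := exists_ne (0 : (F.val.obj (op ⊤) : Type u))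
    let s' : Γ(F, ⊤) := s
    have hinv := CurveFF.SmoothBC.isInvertible (k := FractionRing R) (X := C) hdim
    refine ⟨F.presheaf.germ ⊤ (genericPoint C) trivial s', fun h => hs ?_, fun p => ?_⟩
    · refine TopCat.Presheaf.section_ext ⟨F.presheaf, (F.isSheaf)⟩ ⊤ s' 0 fun p hp => ?_
      refine PicGen.OpenUFD.toGen_injective hinv p ?_
      show RefHull.Generic.toGen F p (F.presheaf.germ ⊤ p hp s') = RefHull.Generic.toGen F p (F.presheaf.germ ⊤ p hp 0)
      rw [RefHull.Generic.toGen_germ, map_zero, map_zero]
      exact h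
    · have hv : F.presheaf.germ ⊤ p trivial s' ∈ Submodule.span (C.presheaf.stalk p)
          (Set.range (CurveFF.OmegaDer.stalkD dd p)) := (CurveFF.OmegaDer.span_range c p) ▸ Submodule.mem_top
      rw [show F.presheaf.germ ⊤ (genericPoint C) trivial s' = RefHull.Generic.toGen F p (F.presheaf.germ ⊤ p trivial s')
        from (RefHull.Generic.toGen_germ _ _).symm]
      generalize F.presheaf.germ ⊤ p trivial s' = v at hv
      induction hv using Submodule.span_induction with
      | mem v hv =>
        obtain ⟨a, rfl⟩ := hv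
        rw [CurveFF.OmegaDer.toGen_stalkD]
        exact Lat.D_mem D (A := (algebraMap (C.presheaf.stalk p) C.functionField).range) (b := algebraMap (C.presheaf.stalk p) C.functionField a) ⟨a, rfl⟩
      | zero => rw [map_zero]; exact zero_mem _
      | add _ _ _ _ h1 h2 => rw [map_add]; exact add_mem h1 h2
      | smul a _ _ h1 => rw [RefHull.Generic.toGen_smul]; exact Lat.smul_mem D (A := (algebraMap (C.presheaf.stalk p) C.functionField).range) (c := algebraMap (C.presheaf.stalk p) C.functionField a) ⟨a, rfl⟩ h1
  obtain ⟨e, he, hie⟩ := M.exists_hom rfl D hD M'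
  obtain ⟨e', he', hie'⟩ := M'.exists_hom rfl D hD M
  haveI : M.X.IsSeparated := ⟨by
    rw [← terminal.comp_from M.f]; infer_instance⟩
  haveI : M'.X.IsSeparated := ⟨by
    rw [← terminal.comp_from M'.f]; infer_instance⟩
  refine ⟨⟨e, e', M.hom_ext ?_, M'.hom_ext ?_⟩, he, hie⟩
  · rw [← Category.assoc, hie, hie', Category.comp_id]
  · rw [← Category.assoc, hie', hie, Category.comp_id]

end Groth.Agent.H58Aut
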