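import Mathlib.RingTheory.Derivation.Basic
import Mathlib.Algebra.Field.Subfield.Basic
import Mathlib.Tactic.FieldSimp
import Mathlib.Tactic.LinearCombination

/-!
# The lattice of differentials of a subring of a field
-/

set_option autoImplicit false
universe u v w

namespace Groth.Agent.H58Aut

variable {R : Type u} [CommRing R] {F : Type v} [Field F] [Algebra R F] {N : Type w} [AddCommGroup N]
  [Module F N] [Module R N] (D : Derivation R F N)

/-- The subgroup spanned by `a db`, `a, b` in `A`. -/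
def Lat (A : Subring F) : AddSubgroup N :=
  AddSubgroup.closure {n | ∃ a ∈ A, ∃ b ∈ A, a • D b = n}

theorem Lat.mono {A B : Subring F} (h : A ≤ B) : Lat D A ≤ Lat D B :=
  AddSubgroup.closure_mono fun _ ⟨a, ha, b, hb, e⟩ => ⟨a, h ha, b, h hb, e⟩

theorem Lat.D_mem {A : Subring F} {b : F} (hb : b ∈ A) : D b ∈ Lat D A :=
  AddSubgroup.subset_closure ⟨1, A.one_mem, b, hb, one_smul _ _⟩

theorem Lat.smul_mem {A : Subring F} {c : F} (hc : c ∈ A) {z : N} (hz : z ∈ Lat D A) :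
    c • z ∈ Lat D A := by
  induction hz using AddSubgroup.closure_induction with
  | mem z hz =>
    obtain ⟨a, ha, b, hb, rfl⟩ := hz
    exact AddSubgroup.subset_closure ⟨c * a, A.mul_mem hc ha, b, hb, mul_smul _ _ _⟩
  | zero => rw [smul_zero]; exact zero_mem _
  | add _ _ _ _ h1 h2 => rw [smul_add]; exact add_mem h1 h2
  | neg _ _ h1 => rw [smul_neg]; exact neg_mem h1

/-- The lattice of `A` is free of rank at most one, generated by `ω`. -/
structure Cyc (A : Subring F) (ω : N) : Prop where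
  mem : ω ∈ Lat D A
  gen : ∀ b ∈ A, ∃ a ∈ A, D b = a • ω

theorem Cyc.exists_smul {A : Subring F} {ω : N} (h : Cyc D A ω) {z : N} (hz : z ∈ Lat D A) :
    ∃ a ∈ A, z = a • ω := by
  induction hz using AddSubgroup.closure_induction with
  | mem z hz =>
    obtain ⟨a, ha, b, hb, rfl⟩ := hz
    obtain ⟨c, hc, e⟩ := h.gen b hb
    exact ⟨a * c, A.mul_mem ha hc, by rw [e, mul_smul]⟩
  | zero => exact ⟨0, A.zero_mem, (zero_smul _ _).symm⟩
  | add _ _ _ _ h1 h2 =>
    obtain ⟨a, ha, rfl⟩ := h1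
    obtain ⟨b, hb, rfl⟩ := h2
    exact ⟨a + b, A.add_mem ha hb, (add_smul _ _ _).symm⟩
  | neg _ _ h1 =>
    obtain ⟨a, ha, rfl⟩ := h1
    exact ⟨-a, A.neg_mem ha, (neg_smul _ _).symm⟩

/-- Fractions. -/
theorem Cyc.of_frac {A B : Subring F} {ω : N} (h : Cyc D A ω) (hAB : A ≤ B)
    (hB : ∀ b ∈ B, ∃ a ∈ A, ∃ s ∈ A, s ≠ 0 ∧ s⁻¹ ∈ B ∧ s * b = a) : Cyc D B ω := by
  refine ⟨Lat.mono D hAB h.mem, fun b hb => ?_⟩
  obtain ⟨a, ha, s, hs, hs0, hsB, e⟩ := hB b hb
  obtain ⟨u, hu, eu⟩ := h.gen a ha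
  obtain ⟨v, hv, ev⟩ := h.gen s hs
  refine ⟨s⁻¹ * (u - b * v), B.mul_mem hsB (B.sub_mem (hAB hu) (B.mul_mem hb (hAB hv))), ?_⟩
  have h1 := D.leibniz s b
  rw [e, eu, ev, ← mul_smul] at h1
  rw [mul_smul, sub_smul, h1, add_sub_cancel_right, inv_smul_smul₀ hs0]

/-- An element in the lattices of all members of a family with intersection `A` is in that of `A`. -/
theorem Cyc.mem_of_forall {A : Subring F} {ω : N} (h : Cyc D A ω) {ι : Type*} [Nonempty ι]
    (B : ι → Subring F) (hB : ∀ i, Cyc D (B i) ω) (hint : ∀ c : F, (∀ i, c ∈ B i) → c ∈ A) {z : N}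
    (hz : ∀ i, z ∈ Lat D (B i)) : z ∈ Lat D A := by
  obtain ⟨i₀⟩ := ‹Nonempty ι›
  obtain ⟨c, -, rfl⟩ := (hB i₀).exists_smul D (hz i₀)
  by_cases hω : ω = 0
  · rw [hω, smul_zero]; exact zero_mem _
  refine Lat.smul_mem D (hint c fun i => ?_) h.mem
  obtain ⟨d, hd, e⟩ := (hB i).exists_smul D (hz i)
  rwa [smul_left_injective F hω e]

variable [IsScalarTower R F N]

/-- If `A` consists of constants up to `p B`, its lattice is in `p Lat B`. -/
theorem Lat.le_smul {A B : Subring F} (hAB : A ≤ B) (p : R)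
    (h : ∀ a ∈ A, ∃ (r : R) (b : F), b ∈ B ∧ a = algebraMap R F r + algebraMap R F p * b)
    {z : N} (hz : z ∈ Lat D A) : ∃ w ∈ Lat D B, z = algebraMap R F p • w := by
  induction hz using AddSubgroup.closure_induction with
  | mem z hz =>
    obtain ⟨a, ha, c, hc, rfl⟩ := hz
    obtain ⟨r, b, hb, rfl⟩ := h c hc
    refine ⟨a • D b, Lat.smul_mem D (hAB ha) (Lat.D_mem D hb), ?_⟩
    rw [map_add, Derivation.map_algebraMap, zero_add, D.leibniz, Derivation.map_algebraMap, smul_zero,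
      add_zero, smul_comm]
  | zero => exact ⟨0, zero_mem _, (smul_zero _).symm⟩
  | add _ _ _ _ h1 h2 =>
    obtain ⟨a, ha, rfl⟩ := h1
    obtain ⟨b, hb, rfl⟩ := h2
    exact ⟨a + b, add_mem ha hb, (smul_add _ _ _).symm⟩
  | neg _ _ h1 =>
    obtain ⟨a, ha, rfl⟩ := h1
    exact ⟨-a, neg_mem ha, (smul_neg _ _).symm⟩

omit [IsScalarTower R F N] in
/-- An infinitely divisible element of a free lattice of rank one vanishes. -/
theorem Cyc.eq_zero_of_divisible {B : Subring F} {ω : N} (h : Cyc D B ω) {π : F} (hπ : π ≠ 0)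
    (hsep : ∀ c : F, (∀ n : ℕ, c / π ^ n ∈ B) → c = 0) {z : N} {e : ℕ → ℕ} (he : ∀ n, n ≤ e n) (hπB : π ∈ B)
    (hz : ∀ n, (π⁻¹) ^ (e n) • z ∈ Lat D B) : z = 0 := by
  by_cases hω : ω = 0
  · obtain ⟨c, -, hc⟩ := h.exists_smul D (hz 0)
    rw [hω, smul_zero, smul_eq_zero] at hc
    exact hc.resolve_left (pow_ne_zero _ (inv_ne_zero hπ))
  obtain ⟨c, -, hc⟩ := h.exists_smul D (hz 0)
  have hz' : z = (π ^ e 0 * c) • ω := by
    rw [mul_smul, ← hc, inv_pow, smul_inv_smul₀ (pow_ne_zero _ hπ)]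
  have : π ^ e 0 * c = 0 := hsep _ fun n => by
    obtain ⟨d, hd, hd'⟩ := h.exists_smul D (hz n)
    rw [hz', ← mul_smul] at hd'
    have h2 := smul_left_injective F hω hd'
    have h3 : π ^ e 0 * c = π ^ e n * d := by
      rw [← h2, ← mul_assoc, ← mul_pow, mul_inv_cancel₀ hπ, one_pow, one_mul]
    rw [h3, ← Nat.sub_add_cancel (he n), pow_add, mul_right_comm, mul_div_cancel_right₀ _ (pow_ne_zero _ hπ)]
    exact B.mul_mem (B.pow_mem hπB _) hd
  rw [hz', this, zero_smul]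

end Groth.Agent.H58Aut
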