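import Groth.Agent.H58Aut.Sub
import Groth.Agent.Lib.Kaehler.SmoothChart
import Groth.Agent.Lib.JacCrit.OverField
import Groth.Agent.Lib.CurveFF.Consts
import Groth.Agent.Lib.SmoothCurve.Curve
import Groth.Agent.H26.NormalSection
import Groth.Agent.H68.Pur21Dvr
import Groth.Agent.H2.Rigid.GeomIrred
import Groth.Agent.H2.Rigid.Smooth

/-!
# Smooth proper models of a curve over a discrete valuation ring
-/

set_option autoImplicit false
set_option linter.style.haveILetI false
set_option backward.isDefEq.respectTransparency false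
set_option backward.isDefEq.respectTransparency.types false
universe u

open CategoryTheory CategoryTheory.Limits AlgebraicGeometry IsLocalRing Groth.Agent.Lib Groth.Agent.Lib.ModelFibre
open Groth.Agent.Lib.ModelFibre.Stalk (baseHom)

noncomputable section

namespace Groth.Agent.H58Aut

variable {R : Type u} [CommRing R] [IsDomain R] [IsDiscreteValuationRing R]

theorem isNormalScheme_spec (A : Type u) [CommRing A] [IsDomain A] [IsIntegrallyClosed A] :
    Pi1.IsNormalScheme (Spec (CommRingCat.of A)) := fun P => by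
  letI : Algebra A ((Spec (CommRingCat.of A)).presheaf.stalk P) := StructureSheaf.stalkAlgebra A P
  haveI : IsLocalization.AtPrime ((Spec (CommRingCat.of A)).presheaf.stalk P) P.asIdeal :=
    StructureSheaf.IsLocalization.to_stalk A P
  exact ⟨IsLocalization.isDomain_of_atPrime _ P.asIdeal,
    isIntegrallyClosed_of_isLocalization _ P.asIdeal.primeCompl P.asIdeal.primeCompl_le_nonZeroDivisors⟩

theorem isFractionRing_iff_away' {B : Type u} [CommRing B] [IsDomain B] [IsDiscreteValuationRing B]
    (F : Type u) [CommRing F] [Algebra B F] {b : B} (hb0 : b ≠ 0) (hb : ¬ IsUnit b) :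
    IsLocalization.Away b F ↔ IsFractionRing B F := by
  refine IsLocalization.iff_of_le_of_exists_dvd (Submonoid.powers b) (nonZeroDivisors B)
    (Submonoid.powers_le.2 (mem_nonZeroDivisors_of_ne_zero hb0)) fun r hr => ?_
  obtain ⟨ϖ, hϖ⟩ := IsDiscreteValuationRing.exists_irreducible B
  obtain ⟨n, hn⟩ := IsDiscreteValuationRing.associated_pow_irreducible (nonZeroDivisors.ne_zero hr) hϖ
  have hdvd : ϖ ∣ b := by
    rw [← Ideal.mem_span_singleton, ← hϖ.maximalIdeal_eq]
    exact hb
  exact ⟨b ^ n, ⟨n, rfl⟩, hn.dvd.trans (pow_dvd_pow_of_dvd hdvd n)⟩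


variable (R) in
/-- A smooth proper model. -/
structure Mdl (C : Scheme.{u}) [IsIntegral C] (fC : C ⟶ Spec (CommRingCat.of (FractionRing R))) where
  X : Scheme.{u}
  f : X ⟶ Spec (CommRingCat.of R)
  i : C ⟶ X
  sq : IsPullback i fC f (Spec.map (CommRingCat.ofHom (algebraMap R (FractionRing R))))
  proper : IsProper f
  smooth : Smooth f
  gc : GeometricallyConnected f
  hdim : ∀ s : ↥(Spec (CommRingCat.of R)), topologicalKrullDim ↥(f.fiber s) = 1

variable {C : Scheme.{u}} [IsIntegral C] {fC : C ⟶ Spec (CommRingCat.of (FractionRing R))} (M : Mdl R C fC)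

attribute [instance] Mdl.proper Mdl.smooth Mdl.gc

namespace Mdl

/-- The uniformizer. -/
def π (_M : Mdl R C fC) : R := (IsDiscreteValuationRing.exists_irreducible R).choose

theorem hπ : Irreducible M.π := (IsDiscreteValuationRing.exists_irreducible R).choose_spec

instance isOpenImmersion : IsOpenImmersion M.i := by
  haveI : IsLocalization.Away M.π (FractionRing R) :=
    (isFractionRing_iff_away' (FractionRing R) M.hπ.ne_zero M.hπ.not_isUnit).2 inferInstance
  haveI : IsOpenImmersion (Spec.map (CommRingCat.ofHom (algebraMap R (FractionRing R)))) :=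
    IsOpenImmersion.of_isLocalization M.π
  exact MorphismProperty.of_isPullback M.sq.flip inferInstance

theorem mem_range_i (x : M.X) : x ∈ Set.range M.i ↔ (M.f x).asIdeal = ⊥ := by
  constructor
  · rintro ⟨p, rfl⟩
    rw [← Scheme.Hom.comp_apply, M.sq.w, Scheme.Hom.comp_apply]
    show Ideal.comap (algebraMap R (FractionRing R)) (fC p).asIdeal = ⊥
    rw [show (fC p).asIdeal = ⊥ from (Ideal.eq_bot_or_top _).resolve_right (fC p).isPrime.ne_top,
      ← RingHom.ker_eq_comap_bot, RingHom.ker_eq_bot_iff_eq_zero]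
    exact fun r hr => IsFractionRing.injective R (FractionRing R) (hr.trans (map_zero _).symm)
  · intro h
    have : x ∈ Set.range (pullback.fst M.f (Spec.map (CommRingCat.ofHom (algebraMap R (FractionRing R))))) := by
      rw [Scheme.Pullback.range_fst]
      refine ⟨⟨⊥, Ideal.isPrime_bot⟩, PrimeSpectrum.ext ?_⟩
      rw [h]
      show Ideal.comap (algebraMap R (FractionRing R)) ⊥ = ⊥
      rw [← RingHom.ker_eq_comap_bot, RingHom.ker_eq_bot_iff_eq_zero]
      exact fun r hr => IsFractionRing.injective R (FractionRing R) (hr.trans (map_zero _).symm)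
    obtain ⟨a, rfl⟩ := this
    exact ⟨M.sq.isoPullback.inv a, by rw [← Scheme.Hom.comp_apply, IsPullback.isoPullback_inv_fst]⟩

/-- The closed fibre. -/
abbrev Es : Scheme.{u} := pullback M.f (Spec.map (CommRingCat.ofHom (residue R)))

/-- Its inclusion. -/
abbrev gs : M.Es ⟶ M.X := pullback.fst _ _

/-- Its structure map. -/
abbrev fs : M.Es ⟶ Spec (CommRingCat.of (ResidueField R)) := pullback.snd _ _

instance : IsClosedImmersion (Spec.map (CommRingCat.ofHom (residue R))) :=
  IsClosedImmersion.spec_of_surjective _ residue_surjective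

theorem special_iff (x : M.X) : x ∉ Set.range M.i ↔ x ∈ Set.range M.gs := by
  rw [M.mem_range_i, Scheme.Pullback.range_fst]
  constructor
  · intro h
    refine ⟨closedPoint (ResidueField R), PrimeSpectrum.ext ?_⟩
    show Ideal.comap (residue R) (closedPoint (ResidueField R)).asIdeal = _
    have hm := (Ideal.IsPrime.isMaximal (M.f x).isPrime h)
    rw [show (closedPoint (ResidueField R)).asIdeal = ⊥ from maximalIdeal_eq_bot, ← RingHom.ker_eq_comap_bot,
      ker_residue, eq_maximalIdeal hm]
  · rintro ⟨a, ha⟩ h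
    rw [← ha] at h
    have : Ideal.comap (residue R) a.asIdeal = ⊥ := h
    rw [show a.asIdeal = ⊥ from (Ideal.eq_bot_or_top _).resolve_right a.isPrime.ne_top,
      ← RingHom.ker_eq_comap_bot, ker_residue] at this
    exact IsDiscreteValuationRing.not_a_field R this

instance nonemptyX : Nonempty M.X := ⟨M.i (genericPoint C)⟩

instance integralX : IsIntegral M.X := by
  refine Groth.Agent.H68.Pur21Dvr.isIntegral_of_smooth M.f M.hπ ?_
  have h : ((M.f ⁻¹ᵁ PrimeSpectrum.basicOpen M.π : M.X.Opens) : Set M.X) = Set.range M.i := by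
    ext x
    rw [M.mem_range_i]
    exact Groth.Agent.H68.Pur21Dvr.mem_basicOpen_iff M.hπ (M.f x)
  rw [h, ← Set.image_univ]
  exact (PreirreducibleSpace.isPreirreducible_univ).image _ M.i.continuous.continuousOn

instance noetherianX : IsLocallyNoetherian M.X := LocallyOfFiniteType.isLocallyNoetherian M.f

theorem normalX : Pi1.IsNormalScheme M.X :=
  Groth.Agent.H26.NormalSection.isNormalScheme_of_smooth M.f (isNormalScheme_spec R)

theorem hi : M.i (genericPoint C) = genericPoint M.X := genericPoint_eq_of_isOpenImmersion M.i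

theorem dim_Es : topologicalKrullDim M.Es = 1 := by
  let s₀ : ↥(Spec (CommRingCat.of R)) := closedPoint R
  have hr : Set.range M.gs = M.f ⁻¹' {s₀} := by
    rw [Scheme.Pullback.range_fst]
    congr 1
    refine Set.ext fun z => ⟨?_, ?_⟩
    · rintro ⟨a, rfl⟩
      rw [Set.mem_singleton_iff]
      refine PrimeSpectrum.ext ?_
      show Ideal.comap (residue R) a.asIdeal = maximalIdeal R
      rw [show a.asIdeal = ⊥ from (Ideal.eq_bot_or_top _).resolve_right a.isPrime.ne_top,
        ← RingHom.ker_eq_comap_bot, ker_residue]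
    · rintro rfl
      exact ⟨closedPoint (ResidueField R), comap_closedPoint (residue R)⟩
  rw [← M.hdim s₀, (Homeomorph.isHomeomorph (M.gs.isEmbedding.toHomeomorph.trans
    ((Homeomorph.setCongr hr).trans (M.f.fiberHomeo s₀).symm))).topologicalKrullDim_eq]

instance nonempty_Es : Nonempty M.Es := by
  by_contra h
  rw [not_nonempty_iff] at h
  have h1 := M.dim_Es
  haveI : IsEmpty (TopologicalSpace.IrreducibleCloseds M.Es) := ⟨fun Z => h.false Z.isIrreducible.nonempty.some⟩
  rw [topologicalKrullDim, Order.krullDim_eq_bot] at h1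
  exact absurd h1 (by simp)

instance smooth_fs : Smooth M.fs := inferInstance

instance connected_Es : ConnectedSpace M.Es :=
  haveI : Nonempty (Spec (CommRingCat.of (ResidueField R))) := inferInstanceAs (Nonempty (PrimeSpectrum (ResidueField R)))
  haveI : Subsingleton (Spec (CommRingCat.of (ResidueField R))) := inferInstanceAs (Subsingleton (PrimeSpectrum (ResidueField R)))
  GeometricallyConnected.connectedSpace_of_subsingleton M.fs

instance integral_Es : IsIntegral M.Es := Groth.Agent.H2.Rigid.GeomIrred.isIntegral_of_smooth M.fs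

/-- The generic point of the closed fibre. -/
def ξ : M.X := M.gs (genericPoint M.Es)

theorem ξ_notMem : M.ξ ∉ Set.range M.i := (M.special_iff _).2 ⟨_, rfl⟩

theorem ξ_specializes {x : M.X} (hx : x ∉ Set.range M.i) : M.ξ ⤳ x := by
  obtain ⟨a, rfl⟩ := (M.special_iff x).1 hx
  exact (genericPoint_specializes a).map M.gs.continuous

theorem special_of_specializes {x y : M.X} (h : y ⤳ x) (hy : y ∉ Set.range M.i) : x ∉ Set.range M.i :=
  fun hx => hy (h.mem_open M.i.isOpenEmbedding.isOpen_range hx)

theorem maximalIdeal_ξ : maximalIdeal (M.X.presheaf.stalk M.ξ) = Ideal.span {baseHom M.f M.ξ M.π} := by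
  have h := Stalk.ker_stalkMap (residue R) residue_surjective (IsPullback.of_hasPullback _ _) (genericPoint M.Es)
  rw [ker_residue, M.hπ.maximalIdeal_eq, Ideal.map_span, Set.image_singleton] at h
  refine h ▸ (eq_maximalIdeal ?_).symm
  exact RingHom.ker_isMaximal_of_surjective _ (M.gs.stalkMap_surjective _)
    (K := M.Es.functionField)

theorem algebraMap_residue_eq (a : M.Es) (r : R) :
    (M.gs.stalkMap a).hom (baseHom M.f (M.gs a) r) = baseHom M.fs a (residue R r) := by
  show (M.gs.stalkMap a).hom ((M.X.presheaf.germ ⊤ (M.gs a) trivial).hom (Coh.toGlobal M.f r)) = _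
  rw [Scheme.Hom.germ_stalkMap_apply]
  refine congrArg (M.Es.presheaf.germ ⊤ a trivial).hom ?_
  have h3 : (Scheme.ΓSpecIso (CommRingCat.of R)).inv ≫ M.f.appTop ≫ M.gs.appTop =
      CommRingCat.ofHom (residue R) ≫ (Scheme.ΓSpecIso (CommRingCat.of (ResidueField R))).inv ≫ M.fs.appTop := by
    rw [← Scheme.Hom.comp_appTop, pullback.condition, Scheme.Hom.comp_appTop,
      Scheme.ΓSpecIso_inv_naturality_assoc]
  exact congrArg (fun g => (CommRingCat.Hom.hom g) r) h3

/-- A function on the closed fibre algebraic over the residue field is constant. -/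
theorem exists_sub_mem (a : M.X.presheaf.stalk M.ξ)
    (ha : ∃ P : Polynomial R, P.Monic ∧ P.eval₂ (baseHom M.f M.ξ) a ∈ maximalIdeal (M.X.presheaf.stalk M.ξ)) :
    ∃ (r : R) (b : M.X.presheaf.stalk M.ξ), a = baseHom M.f M.ξ r + baseHom M.f M.ξ M.π * b := by
  obtain ⟨P, hP, hPm⟩ := ha
  let η := genericPoint M.Es
  let lam : M.Es.functionField := (M.gs.stalkMap η).hom a
  have hl : (baseHom M.fs η).IsIntegralElem lam := by
    refine ⟨P.map (residue R), hP.map _, ?_⟩
    rw [Polynomial.eval₂_map, show (baseHom M.fs η).comp (residue R) = (M.gs.stalkMap η).hom.comp (baseHom M.f M.ξ) from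
      RingHom.ext fun r => (M.algebraMap_residue_eq η r).symm, ← Polynomial.hom_eval₂]
    rw [M.maximalIdeal_ξ] at hPm
    obtain ⟨c, hc⟩ := Ideal.mem_span_singleton'.1 hPm
    refine (congrArg (M.gs.stalkMap η).hom hc.symm).trans ?_
    rw [map_mul]
    refine mul_eq_zero_of_right _ ((M.algebraMap_residue_eq η M.π).trans ?_)
    rw [(residue_eq_zero_iff _).2 (M.hπ.maximalIdeal_eq ▸ Ideal.mem_span_singleton_self _), map_zero]
  obtain ⟨s, hs⟩ := RegularExt.exists_global lam fun y => by
    letI := (baseHom M.fs η).toAlgebra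
    letI := (baseHom M.fs y).toAlgebra
    have : IsScalarTower (ResidueField R) (M.Es.presheaf.stalk y) M.Es.functionField :=
      .of_algebraMap_eq fun r => (RegularExt.algebraMap_baseHom M.fs y r).symm
    have hn : IsIntegrallyClosed (M.Es.presheaf.stalk y) :=
      (Groth.Agent.H26.NormalSection.isNormalScheme_of_smooth M.fs (isNormalScheme_spec _) y).2
    exact IsIntegrallyClosed.isIntegral_iff.1 (IsIntegral.tower_top (show IsIntegral (ResidueField R) lam from hl))
  haveI : GeometricallyReduced M.fs := Groth.Agent.H2.Rigid.geometricallyReduced_of_smooth M.fs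
  have hsurj : Function.Surjective M.fs.appTop.hom :=
    (Groth.Agent.H2.Rigid.H0.of_geometrically M.fs).isPullback (pt := 𝟙 _) (p₁ := 𝟙 M.Es) (p₂ := M.fs)
      (IsPullback.of_horiz_isIso ⟨by simp⟩)
  obtain ⟨c, rfl⟩ := hsurj s
  obtain ⟨r', rfl⟩ := (Scheme.ΓSpecIso (CommRingCat.of (ResidueField R))).commRingCatIsoToRingEquiv.symm.surjective c
  obtain ⟨r, rfl⟩ := residue_surjective r'
  have hker : a - baseHom M.f M.ξ r ∈ RingHom.ker (M.gs.stalkMap η).hom := by
    rw [RingHom.mem_ker, map_sub, sub_eq_zero]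
    exact hs.symm.trans (M.algebraMap_residue_eq η r).symm
  rw [Stalk.ker_stalkMap (residue R) residue_surjective (IsPullback.of_hasPullback _ _) η, ker_residue,
    M.hπ.maximalIdeal_eq, Ideal.map_span, Set.image_singleton] at hker
  obtain ⟨b, hb⟩ := Ideal.mem_span_singleton'.1 hker
  exact ⟨r, b, by rw [mul_comm]; exact (eq_add_of_sub_eq' hb.symm)⟩

theorem isClosed_of_ne_ξ {x : M.X} (hx : x ∉ Set.range M.i) (hne : x ≠ M.ξ) : IsClosed ({x} : Set M.X) := by
  obtain ⟨a, rfl⟩ := (M.special_iff x).1 hx
  rcases Groth.Agent.Lib.SmoothCurve.Curve.eq_genericPoint_or_isClosed M.dim_Es a with rfl | ha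
  · exact absurd rfl hne
  · rw [← Set.image_singleton]
    exact M.gs.isClosedMap _ ha

end Mdl

end Groth.Agent.H58Aut
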