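import Groth.Agent.H58Aut.Fibre
import Groth.Agent.Lib.DvrCrit.Existence
import Groth.Agent.Lib.GrpSch.Blanchard
import Groth.Agent.Lib.QuotSt.Basic
import Groth.Agent.Lib.GalPts.Restrict
import Groth.Agent.Lib.GrpSch.MonoCoset
import Groth.Prelude.Def_AutSch

/-!
# The automorphism group scheme of a family of curves of positive genus satisfies the valuative criterion
-/

set_option autoImplicit false
set_option linter.style.haveILetI false
set_option backward.isDefEq.respectTransparency false
set_option backward.isDefEq.respectTransparency.types false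
universe u

open CategoryTheory CategoryTheory.Limits MonoidalCategory CartesianMonoidalCategory MonObj GrpObj
open AlgebraicGeometry IsLocalRing Groth.Agent.Lib

noncomputable section

namespace Groth.Agent.H58Aut

variable {S : Scheme.{u}} {X G : Over S} [GrpObj G]

/-- The family of an action is a family of automorphisms. -/
theorem isAutFamily_famOf (a : AlgGrp.Action G X) {T : Over S} (g : T ⟶ G) :
    AutSch.IsAutFamily (AutSch.famOf a g) := by
  have key : ∀ u v : T ⟶ G, u * v = 1 → AutSch.endOf (AutSch.famOf a v) ≫ AutSch.endOf (AutSch.famOf a u) = 𝟙 _ := by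
    intro u v huv
    apply CartesianMonoidalCategory.hom_ext
    · rw [Category.assoc, AutSch.endOf_fst, Category.id_comp]
      simp only [AutSch.famOf, AutSch.endOf, comp_lift_assoc, lift_snd_assoc, lift_fst]
      rw [← GrpSch.act_mul, ← MonObj.comp_mul, huv, MonObj.comp_one, GrpSch.act_one]
    · rw [Category.assoc, AutSch.endOf_snd, AutSch.endOf_snd, Category.id_comp]
  exact ⟨AutSch.endOf (AutSch.famOf a g⁻¹), key g⁻¹ g (inv_mul_cancel g), key g g⁻¹ (mul_inv_cancel g)⟩

variable [IsProper X.hom] [Smooth X.hom] [GeometricallyConnected X.hom]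

/-- Points of the automorphism scheme over the fraction field of a discrete valuation ring extend. -/
theorem exists_extend_point (hdim : ∀ s : S, topologicalKrullDim ↥(X.hom.fiber s) = 1) (n : ℕ) (hn : 1 ≤ n)
    (hgen : ∀ s : S, letI : (X.hom.fiber s).Over (Spec (S.residueField s)) := ⟨X.hom.fiberToSpecResidueField s⟩
      Curv2.genus (S.residueField s) (X.hom.fiber s) = n)
    {a : AlgGrp.Action G X} (hG : AutSch.Represents X G a)
    (W : Type u) [CommRing W] [IsDomain W] [IsDiscreteValuationRing W]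
    (φ : Spec (CommRingCat.of W) ⟶ S)
    (u : Over.mk (Spec.map (CommRingCat.ofHom (algebraMap W (FractionRing W))) ≫ φ) ⟶ Over.mk φ)
    (hu : u.left = Spec.map (CommRingCat.ofHom (algebraMap W (FractionRing W))))
    (g : Over.mk (Spec.map (CommRingCat.ofHom (algebraMap W (FractionRing W))) ≫ φ) ⟶ G) :
    ∃ g' : Over.mk φ ⟶ G, u ≫ g' = g := by
  let gη := Spec.map (CommRingCat.ofHom (algebraMap W (FractionRing W)))
  let T : Over S := Over.mk φ
  let Tη : Over S := Over.mk (gη ≫ φ)
  let C : Scheme.{u} := (X ⊗ Tη).left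
  let fC : C ⟶ Spec (CommRingCat.of (FractionRing W)) := (snd X Tη).left
  let XT : Scheme.{u} := (X ⊗ T).left
  let f : XT ⟶ Spec (CommRingCat.of W) := (snd X T).left
  let p : XT ⟶ X.left := (fst X T).left
  let pC : C ⟶ X.left := (fst X Tη).left
  have hT : IsPullback p f X.hom φ := IsPullback.of_hasPullback X.hom T.hom
  have hC : IsPullback pC fC X.hom (gη ≫ φ) := IsPullback.of_hasPullback X.hom Tη.hom
  let i : C ⟶ XT := (X ◁ u).left
  have hi1 : i ≫ p = pC := congrArg Over.Hom.left (whiskerLeft_fst X u)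
  have hi2 : i ≫ f = fC ≫ gη := (congrArg Over.Hom.left (whiskerLeft_snd X u)).trans (congrArg (fC ≫ ·) hu)
  have hsq : IsPullback i fC f gη := IsPullback.of_right (hi1.symm ▸ hC) hi2 hT
  haveI : IsProper f := MorphismProperty.of_isPullback (P := @IsProper) hT ‹_›
  haveI : Smooth f := MorphismProperty.of_isPullback (P := @Smooth) hT ‹_›
  haveI : GeometricallyConnected f := MorphismProperty.of_isPullback (P := @GeometricallyConnected) hT ‹_›
  haveI : Smooth fC := MorphismProperty.of_isPullback (P := @Smooth) hsq ‹_›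
  haveI : ConnectedSpace C := connected_of_fibres X.hom hC
  haveI : IsIntegral C := H2.Rigid.GeomIrred.isIntegral_of_smooth fC
  have hfib : ∀ s : ↥(Spec (CommRingCat.of W)), IsPullback (f.fiberι s ≫ p) (f.fiberToSpecResidueField s) X.hom
      ((Spec (CommRingCat.of W)).fromSpecResidueField s ≫ φ) := fun s =>
    (IsPullback.of_hasPullback f ((Spec (CommRingCat.of W)).fromSpecResidueField s)).paste_horiz hT
  let E : X ⊗ Tη ⟶ X ⊗ Tη := AutSch.endOf (AutSch.famOf a g)
  haveI : IsIso E := isAutFamily_famOf a g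
  let El : C ⟶ C := E.left
  haveI : IsIso El := inferInstanceAs (IsIso ((Over.forget S).map E))
  have hE1 : El ≫ pC = (AutSch.famOf a g).left := congrArg Over.Hom.left (AutSch.endOf_fst (AutSch.famOf a g))
  have hE2 : El ≫ fC = fC := congrArg Over.Hom.left (AutSch.endOf_snd (AutSch.famOf a g))
  have hsq' : IsPullback (El ≫ i) fC f gη := by
    have h1 : IsPullback El fC fC (𝟙 _) := IsPullback.of_horiz_isIso ⟨by rw [hE2, Category.comp_id]⟩
    simpa only [Category.id_comp] using h1.paste_horiz hsq
  let M : Mdl W C fC := ⟨XT, f, i, hsq, inferInstance, inferInstance, inferInstance,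
    fun s => dim_of_fibres X.hom hdim (hfib s)⟩
  let M' : Mdl W C fC := ⟨XT, f, El ≫ i, hsq', inferInstance, inferInstance, inferInstance,
    fun s => dim_of_fibres X.hom hdim (hfib s)⟩
  obtain ⟨e, he, hie⟩ := exists_extend M M' hn fun s => genus_of_fibres X.hom hgen (hfib s)
  let ev : XT ⟶ XT := e.hom
  have hev : ev ≫ f = f := he
  have hiev : i ≫ ev = El ≫ i := hie
  let Ψ : X ⊗ T ⟶ X := Over.homMk (ev ≫ p) (by
    show (ev ≫ p) ≫ X.hom = _
    rw [Category.assoc, hT.w, ← Category.assoc, hev]
    exact Over.w (snd X T))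
  have hΨ : AutSch.IsAutFamily Ψ := by
    have hl : (AutSch.endOf Ψ).left = ev := by
      refine hT.hom_ext ?_ ?_
      · exact congrArg Over.Hom.left (AutSch.endOf_fst Ψ)
      · exact (congrArg Over.Hom.left (AutSch.endOf_snd Ψ)).trans hev.symm
    haveI : IsIso ((Over.forget S).map (AutSch.endOf Ψ)) := by
      show IsIso (AutSch.endOf Ψ).left
      rw [hl]
      exact inferInstanceAs (IsIso e.hom)
    exact isIso_of_reflects_iso (AutSch.endOf Ψ) (Over.forget S)
  obtain ⟨g', hg', -⟩ := (AutSch.represents_iff G a).1 hG T Ψ hΨ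
  refine ⟨g', ((AutSch.represents_iff G a).1 hG Tη _ (isAutFamily_famOf a g)).unique ?_ rfl⟩
  rw [AutSch.famOf_comp, hg']
  refine Over.OverMorphism.ext ?_
  show i ≫ ev ≫ p = _
  rw [← Category.assoc, hiev, Category.assoc, hi1, hE1]

theorem universallyClosed_aut [IsLocallyNoetherian S] [QuasiCompact G.hom] [LocallyOfFiniteType G.hom]
    (hdim : ∀ s : S, topologicalKrullDim ↥(X.hom.fiber s) = 1) (n : ℕ) (hn : 1 ≤ n)
    (hgen : ∀ s : S, letI : (X.hom.fiber s).Over (Spec (S.residueField s)) := ⟨X.hom.fiberToSpecResidueField s⟩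
      Curv2.genus (S.residueField s) (X.hom.fiber s) = n)
    {a : AlgGrp.Action G X} (hG : AutSch.Represents X G a) : UniversallyClosed G.hom := by
  refine DvrCrit.universallyClosed_of_dvr G.hom fun x W _ φ hφ => ?_
  let θ := FractionRing.algEquiv W (G.left.residueField x)
  let θ₁ : Spec (G.left.residueField x) ⟶ Spec (CommRingCat.of (FractionRing W)) :=
    Spec.map (CommRingCat.ofHom θ.toRingEquiv.toRingHom)
  let θ₂ : Spec (CommRingCat.of (FractionRing W)) ⟶ Spec (G.left.residueField x) :=
    Spec.map (CommRingCat.ofHom θ.symm.toRingEquiv.toRingHom)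
  let gη := Spec.map (CommRingCat.ofHom (algebraMap W (FractionRing W)))
  have h1 : θ₁ ≫ gη = DvrCrit.gen W := by
    show Spec.map _ ≫ Spec.map _ = Spec.map _
    rw [← Spec.map_comp]
    congr 1
    ext w
    exact θ.commutes w
  have h2 : θ₂ ≫ DvrCrit.gen W = gη := by
    show Spec.map _ ≫ Spec.map _ = Spec.map _
    rw [← Spec.map_comp]
    congr 1
    ext w
    exact θ.symm.commutes w
  have h3 : θ₁ ≫ θ₂ = 𝟙 _ := by
    show Spec.map _ ≫ Spec.map _ = _
    rw [← Spec.map_comp, ← Spec.map_id]
    congr 1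
    ext w
    exact θ.apply_symm_apply w
  let g : Over.mk (gη ≫ φ) ⟶ G := Over.homMk (θ₂ ≫ G.left.fromSpecResidueField x) (by
    show (θ₂ ≫ G.left.fromSpecResidueField x) ≫ G.hom = gη ≫ φ
    rw [Category.assoc, ← hφ, ← Category.assoc, h2])
  obtain ⟨g', hg'⟩ := exists_extend_point hdim n hn hgen hG W φ (Over.homMk gη rfl) rfl g
  refine ⟨g'.left, ?_, Over.w g'⟩
  have hg'' : gη ≫ g'.left = θ₂ ≫ G.left.fromSpecResidueField x := congrArg Over.Hom.left hg'
  rw [← h1, Category.assoc, hg'', ← Category.assoc, h3]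
  exact Category.id_comp _

end Groth.Agent.H58Aut
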