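import Groth.Agent.H58Aut.Lat
import Groth.Agent.Lib.ModelFibre.NoContraction
import Groth.Agent.Lib.RefHull.Generic

/-!
# Local rings inside a common function field
-/

set_option autoImplicit false
universe u

open CategoryTheory AlgebraicGeometry IsLocalRing Groth.Agent.Lib.ModelFibre

noncomputable section

namespace Groth.Agent.H58Aut

variable {C T T' : Scheme.{u}} [IsIntegral C] [IsIntegral T] [IsIntegral T']
  (i : C ⟶ T) (hi : i (genericPoint C) = genericPoint T)

/-- The map of function fields. -/
def jHom : T.functionField →+* C.functionField :=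
  (T.presheaf.stalkSpecializes (specializes_of_eq hi) ≫ i.stalkMap (genericPoint C)).hom

/-- The map from a local ring to the function field of `C`. -/
def jx (x : T) : T.presheaf.stalk x →+* C.functionField :=
  (jHom i hi).comp (algebraMap (T.presheaf.stalk x) T.functionField)

/-- The local ring as a subring. -/
def sub (x : T) : Subring C.functionField := (jx i hi x).range

theorem jx_eq (x : T) (h : i (genericPoint C) ⤳ x) :
    jx i hi x = (T.presheaf.stalkSpecializes h ≫ i.stalkMap (genericPoint C)).hom := by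
  ext a
  refine congrArg (i.stalkMap (genericPoint C)).hom ?_
  show T.presheaf.stalkSpecializes _ (T.presheaf.stalkSpecializes (genericPoint_specializes x) a) = _
  rw [← ConcreteCategory.comp_apply, TopCat.Presheaf.stalkSpecializes_comp]
  rfl

theorem jx_injective (x : T) : Function.Injective (jx i hi x) :=
  (jHom i hi).injective.comp (IsFractionRing.injective _ _)

theorem sub_mono {x y : T} (h : y ⤳ x) : sub i hi x ≤ sub i hi y := by
  rintro _ ⟨a, rfl⟩
  exact ⟨T.presheaf.stalkSpecializes h a, congrArg (jHom i hi) (NoContraction.algebraMap_specializes h a)⟩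

theorem jx_specializes {x y : T} (h : y ⤳ x) (a : T.presheaf.stalk x) :
    jx i hi y (T.presheaf.stalkSpecializes h a) = jx i hi x a :=
  congrArg (jHom i hi) (NoContraction.algebraMap_specializes h a)

theorem sub_self (p : C) :
    (algebraMap (C.presheaf.stalk p) C.functionField).range ≥ sub i hi (i p) := by
  rintro _ ⟨a, rfl⟩
  refine ⟨i.stalkMap p a, ?_⟩
  rw [jx_eq i hi (i p) ((genericPoint_specializes p).map i.continuous)]
  exact (Scheme.Hom.stalkSpecializes_stalkMap_apply i _ _ (genericPoint_specializes p) a).symm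

theorem sub_of_isOpenImmersion [IsOpenImmersion i] (p : C) :
    sub i hi (i p) = (algebraMap (C.presheaf.stalk p) C.functionField).range := by
  refine le_antisymm (sub_self i hi p) ?_
  rintro _ ⟨b, rfl⟩
  obtain ⟨a, rfl⟩ := (ConcreteCategory.bijective_of_isIso (i.stalkMap p)).2 b
  refine ⟨a, ?_⟩
  rw [jx_eq i hi (i p) ((genericPoint_specializes p).map i.continuous)]
  exact (Scheme.Hom.stalkSpecializes_stalkMap_apply i _ _ (genericPoint_specializes p) a)

/-- `B` dominates `A`. -/
def Dom {F : Type*} [Field F] (A B : Subring F) : Prop := A ≤ B ∧ ∀ a ∈ A, a⁻¹ ∈ B → a⁻¹ ∈ A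

theorem Dom.eq_of_valuation {F : Type*} [Field F] {A B : Subring F} (h : Dom A B)
    (hA : ∀ c : F, c ∈ A ∨ c⁻¹ ∈ A) : A = B := by
  refine le_antisymm h.1 fun c hc => (hA c).elim id fun hc' => ?_
  have := h.2 c⁻¹ hc' (by rwa [inv_inv])
  rwa [inv_inv] at this

/-- A morphism gives domination of local rings. -/
theorem dom_map (i' : C ⟶ T') (hi' : i' (genericPoint C) = genericPoint T') (q : T ⟶ T') (hq : i ≫ q = i')
    (x : T) : Dom (sub i' hi' (q x)) (sub i hi x) := by
  subst hq
  have key : ∀ a : T'.presheaf.stalk (q x), jx i hi x (q.stalkMap x a) = jx (i ≫ q) hi' (q x) a := by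
    intro a
    have h : i (genericPoint C) ⤳ x := hi ▸ genericPoint_specializes x
    rw [jx_eq i hi x h, jx_eq (i ≫ q) hi' (q x) (h.map q.continuous)]
    rw [Scheme.Hom.stalkMap_comp]
    exact congrArg (i.stalkMap (genericPoint C)).hom (Scheme.Hom.stalkSpecializes_stalkMap_apply q _ _ h a).symm
  refine ⟨?_, ?_⟩
  · rintro _ ⟨a, rfl⟩; exact ⟨_, key a⟩
  · rintro _ ⟨a, rfl⟩ ⟨b, hb⟩
    by_cases h0 : a = 0
    · subst h0; rw [map_zero, inv_zero]; exact zero_mem _
    have hne : jx (i ≫ q) hi' (q x) a ≠ 0 := fun h => h0 (jx_injective _ hi' _ (h.trans (map_zero _).symm))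
    have hu : IsUnit (q.stalkMap x a) := IsUnit.of_mul_eq_one b (jx_injective i hi x (by
      rw [map_mul, key, hb, mul_inv_cancel₀ hne, map_one]))
    obtain ⟨v, rfl⟩ := (isUnit_map_iff (q.stalkMap x).hom a).1 hu
    exact ⟨↑v⁻¹, map_units_inv _ v⟩

end Groth.Agent.H58Aut
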