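import Groth.Agent.H58Aut.Fibre
import Groth.Agent.Lib.GrpSch.InfAutDer
import Groth.Agent.Lib.Curves.Degree
import Groth.Agent.Lib.Curves.Positivity
import Groth.Agent.Lib.QuotSt.Basic
import Groth.Agent.S14352
import Groth.Agent.S18905

/-!
# The automorphism group scheme of a family of curves of genus at least two is unramified
-/

set_option autoImplicit false
set_option linter.style.haveILetI false
set_option backward.isDefEq.respectTransparency false
set_option backward.isDefEq.respectTransparency.types false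
universe u

open CategoryTheory CategoryTheory.Limits MonoidalCategory CartesianMonoidalCategory MonObj GrpObj
open AlgebraicGeometry Groth.Agent.Lib Groth.Agent.Lib.GrpSch.InfAut Groth.Agent.Lib.GrpSch.InfAut.Thick

noncomputable section

namespace Groth.Agent.H58Aut

/-- A smooth proper connected curve of genus at least two has no vector fields. -/
theorem der_eq_zero {k : Type u} [Field k] (X : Over (Spec (CommRingCat.of k))) [IsProper X.hom] [Smooth X.hom]
    [GeometricallyConnected X.hom] (hdim : topologicalKrullDim ↥X.left = 1) (g : ℕ) (hg : 2 ≤ g)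
    (hgen : letI : X.left.Over (Spec (CommRingCat.of k)) := ⟨X.hom⟩; Curv2.genus k X.left = g)
    (D : OmegaSh.Der X.hom (Coh.structureModule X.left)) (U : X.left.Opens) (s : Γ(X.left, U)) :
    D.app U s = 0 := by
  letI : X.left.Over (Spec (CommRingCat.of k)) := ⟨X.hom⟩
  let c := X.left ↘ Spec (CommRingCat.of k)
  haveI : IsProper c := ‹IsProper X.hom›
  haveI : Smooth c := ‹Smooth X.hom›
  haveI : GeometricallyConnected c := ‹GeometricallyConnected X.hom›
  haveI : ConnectedSpace X.left := GeometricallyConnected.connectedSpace_of_subsingleton X.hom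
  haveI : IsIntegral X.left := H2.Rigid.GeomIrred.isIntegral_of_smooth X.hom
  haveI : IsLocallyNoetherian X.left := LocallyOfFiniteType.isLocallyNoetherian X.hom
  haveI : CompactSpace ↥X.left := QuasiCompact.compactSpace_of_compactSpace X.hom
  haveI : IsNoetherian X.left := ⟨⟩
  have h0 := CurveFF.finrank_h0_eq_one k X.left
  have hfacts := (Groth.Agent.S1612.result k X.left ⟨‹_›, ‹_›, ‹_›, hdim⟩ h0).2
  have hinv := CurveFF.SmoothBC.isInvertible (k := k) (X := X.left) hdim
  obtain ⟨α, hα, -⟩ := Kaehler.DOmega.isUniversal_dOmega c (Coh.structureModule X.left) D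
  have hz : α = 0 := by
    by_contra hne
    have hO := PicLoc.isInvertible_structureModule X.left
    have := Curves.Positivity.deg_le_of_ne_zero (k := k) hdim.le hinv hO (Curves.Degree.isGood hdim.le hinv)
      (Curves.Degree.isGood hdim.le hO) hne
    rw [hfacts, Curves.Degree.deg_structureModule, hgen] at this
    omega
  rw [← hα, hz]
  rfl

variable {S : Scheme.{u}} {X G : Over S} [GrpObj G]

/-- The family of the unit. -/
theorem famOf_one (a : AlgGrp.Action G X) (T : Over S) : AutSch.famOf a (1 : T ⟶ G) = fst X T := by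
  rw [AutSch.famOf, MonObj.comp_one, QuotSt.Act.one_smul]

theorem isAutFamily_fst (T : Over S) : AutSch.IsAutFamily (fst X T) := by
  change IsIso (lift (fst X T) (snd X T))
  rw [lift_fst_snd]
  infer_instance

theorem eq_one_of_famOf {a : AlgGrp.Action G X} (hG : AutSch.Represents X G a) {T : Over S} {d : T ⟶ G}
    (h : AutSch.famOf a d = fst X T) : d = 1 :=
  ((AutSch.represents_iff G a).1 hG T _ (isAutFamily_fst T)).unique h (famOf_one a T)

variable {k : Type u} [Field k]

/-- A tangent vector at the identity of a geometric fibre is trivial. -/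
theorem tangent_eq_one [IsProper X.hom] [Smooth X.hom] [GeometricallyConnected X.hom]
    (hdim : ∀ s : S, topologicalKrullDim ↥(X.hom.fiber s) = 1) (g : ℕ) (hg : 2 ≤ g)
    (hgen : ∀ s : S, letI : (X.hom.fiber s).Over (Spec (S.residueField s)) := ⟨X.hom.fiberToSpecResidueField s⟩
      Curv2.genus (S.residueField s) (X.hom.fiber s) = g)
    {a : AlgGrp.Action G X} (hG : AutSch.Represents X G a) (σ : Spec (CommRingCat.of k) ⟶ S)
    (z : Over.mk σ ⟶ Over.mk ((dual k).hom ≫ σ)) (hz : z.left = (zero k).left)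
    (d : Over.mk ((dual k).hom ≫ σ) ⟶ G) (hd : z ≫ d = 1) : d = 1 := by
  let T : Over S := Over.mk ((dual k).hom ≫ σ)
  let φ := AutSch.famOf a d
  have hφ : AutSch.pullFam z φ = fst X (Over.mk σ) := by
    rw [← AutSch.famOf_comp, hd, famOf_one]
  have hφl : (X ◁ z).left ≫ φ.left = (fst X (Over.mk σ)).left := congrArg Over.Hom.left hφ
  let Y : Over (Spec (CommRingCat.of k)) := Over.mk (pullback.snd X.hom σ)
  haveI : IsProper Y.hom := inferInstanceAs (IsProper (pullback.snd X.hom σ))
  haveI : Smooth Y.hom := inferInstanceAs (Smooth (pullback.snd X.hom σ))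
  haveI : GeometricallyConnected Y.hom := inferInstanceAs (GeometricallyConnected (pullback.snd X.hom σ))
  have hsqY : IsPullback (pullback.fst X.hom σ) Y.hom X.hom σ := IsPullback.of_hasPullback _ _
  have hY : IsNoetherian Y.left := by
    haveI : IsLocallyNoetherian Y.left := LocallyOfFiniteType.isLocallyNoetherian Y.hom
    haveI : CompactSpace ↥Y.left := QuasiCompact.compactSpace_of_compactSpace Y.hom
    exact ⟨⟩
  let p1 : (Y ⊗ dual k).left ⟶ Y.left := (fst Y (dual k)).left
  let p2 : (Y ⊗ dual k).left ⟶ (dual k).left := (snd Y (dual k)).left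
  have hp : p1 ≫ Y.hom = p2 ≫ (dual k).hom := (Over.w (fst Y (dual k))).trans (Over.w (snd Y (dual k))).symm
  let q1 : (X ⊗ T).left ⟶ X.left := (fst X T).left
  let q2 : (X ⊗ T).left ⟶ (dual k).left := (snd X T).left
  have hqsq : IsPullback q1 q2 X.hom ((dual k).hom ≫ σ) := IsPullback.of_hasPullback X.hom T.hom
  have hpsq : IsPullback p1 p2 Y.hom (dual k).hom := IsPullback.of_hasPullback Y.hom (dual k).hom
  let c : (Y ⊗ dual k).left ⟶ (X ⊗ T).left := hqsq.lift (p1 ≫ pullback.fst X.hom σ) p2 (by
    rw [Category.assoc, pullback.condition, ← Category.assoc p2, ← hp, Category.assoc]; rfl)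
  have hc1 : c ≫ q1 = p1 ≫ pullback.fst X.hom σ := hqsq.lift_fst _ _ _
  have hc2 : c ≫ q2 = p2 := hqsq.lift_snd _ _ _
  have hw : φ.left ≫ X.hom = q2 ≫ (dual k).hom ≫ σ := (Over.w φ).trans (Over.w (snd X T)).symm
  let ψl : (Y ⊗ dual k).left ⟶ Y.left := pullback.lift (c ≫ φ.left) (p2 ≫ (dual k).hom) (by
    rw [Category.assoc, hw, ← Category.assoc, hc2, Category.assoc])
  let ψ : Y ⊗ dual k ⟶ Y := Over.homMk ψl ((pullback.lift_snd _ _ _).trans (Over.w (snd Y (dual k))))
  have hs1 : (sec Y).left ≫ p1 = 𝟙 _ := sec_π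
  have hs2 : (sec Y).left ≫ p2 = Y.hom ≫ (zero k).left := by
    show ((sec Y) ≫ snd Y (dual k)).left = _
    rw [lift_snd]
    rfl
  have hsec : (sec Y).left ≫ c = (X ◁ z).left := by
    refine hqsq.hom_ext ?_ ?_
    · rw [Category.assoc, hc1, ← Category.assoc, hs1]
      refine (Category.id_comp _).trans (Eq.symm ?_)
      exact congrArg Over.Hom.left (whiskerLeft_fst X z)
    · rw [Category.assoc, hc2, hs2, ← hz]
      exact (congrArg Over.Hom.left (whiskerLeft_snd X z)).symm
  have hs : (sec Y).left ≫ ψ.left = 𝟙 Y.left := by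
    refine pullback.hom_ext ?_ ?_
    · show ((sec Y).left ≫ ψl) ≫ _ = _
      rw [Category.assoc, pullback.lift_fst, ← Category.assoc, hsec, hφl]
      exact (Category.id_comp _).symm
    · show ((sec Y).left ≫ ψl) ≫ _ = _
      rw [Category.assoc, pullback.lift_snd, ← Category.assoc, hs2]
      refine Eq.trans ?_ (Category.id_comp _).symm
      rw [Category.assoc, show (zero k).left ≫ (dual k).hom = 𝟙 _ from Over.w (zero k)]
      exact Category.comp_id _
  have hψ : ψ = fst Y (dual k) := eq_fst_of_derOf θ_bijective ψ hs fun U s =>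
    der_eq_zero Y (dim_of_fibres X.hom hdim hsqY) g hg (genus_of_fibres X.hom hgen hsqY) _ U s
  have h1 : c ≫ φ.left = c ≫ q1 := by
    rw [hc1, show c ≫ φ.left = ψl ≫ pullback.fst X.hom σ from (pullback.lift_fst _ _ _).symm]
    exact congrArg (· ≫ pullback.fst X.hom σ) (congrArg Over.Hom.left hψ)
  let e : (X ⊗ T).left ⟶ (Y ⊗ dual k).left := hpsq.lift (pullback.lift q1 (q2 ≫ (dual k).hom) (by
    rw [hqsq.w, Category.assoc])) q2 (pullback.lift_snd _ _ _)
  have hec : e ≫ c = 𝟙 _ := by
    refine hqsq.hom_ext ?_ ?_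
    · rw [Category.assoc, hc1, ← Category.assoc, hpsq.lift_fst, pullback.lift_fst, Category.id_comp]
    · rw [Category.assoc, hc2, hpsq.lift_snd, Category.id_comp]
  refine eq_one_of_famOf hG (Over.OverMorphism.ext ?_)
  have := congrArg (e ≫ ·) h1
  rwa [← Category.assoc, hec, Category.id_comp, ← Category.assoc, hec, Category.id_comp] at this

theorem formallyUnramified_aut [IsProper X.hom] [Smooth X.hom] [GeometricallyConnected X.hom]
    [LocallyOfFinitePresentation G.hom]
    (hdim : ∀ s : S, topologicalKrullDim ↥(X.hom.fiber s) = 1) (g : ℕ) (hg : 2 ≤ g)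
    (hgen : ∀ s : S, letI : (X.hom.fiber s).Over (Spec (S.residueField s)) := ⟨X.hom.fiberToSpecResidueField s⟩
      Curv2.genus (S.residueField s) (X.hom.fiber s) = g)
    {a : AlgGrp.Action G X} (hG : AutSch.Represents X G a) : FormallyUnramified G.hom := by
  refine (Groth.Agent.S14352.result G.hom).2 fun K _ _ σ => ?_
  haveI : FormallyUnramified (pullback.snd G.hom σ) := by
    refine (Groth.Agent.S18905.result K (pullback.snd G.hom σ)).2 fun v₁ v₂ h₁ h₂ h0 => ?_
    let z : Over.mk σ ⟶ Over.mk ((dual K).hom ≫ σ) := Over.homMk (zero K).left (by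
      show (zero K).left ≫ (dual K).hom ≫ σ = σ
      rw [← Category.assoc, show (zero K).left ≫ (dual K).hom = 𝟙 _ from Over.w (zero K)]
      exact Category.id_comp σ)
    have mk : ∀ v : Spec (CommRingCat.of (DualNumber K)) ⟶ pullback G.hom σ,
        v ≫ pullback.snd G.hom σ = Spec.map (CommRingCat.ofHom (algebraMap K (DualNumber K))) →
        (v ≫ pullback.fst G.hom σ) ≫ G.hom = (dual K).hom ≫ σ := fun v hv => by
      rw [Category.assoc, pullback.condition, ← Category.assoc, hv]
      rfl
    let g₁ : Over.mk ((dual K).hom ≫ σ) ⟶ G := Over.homMk (v₁ ≫ pullback.fst G.hom σ) (mk v₁ h₁)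
    let g₂ : Over.mk ((dual K).hom ≫ σ) ⟶ G := Over.homMk (v₂ ≫ pullback.fst G.hom σ) (mk v₂ h₂)
    have h12 : z ≫ g₁ = z ≫ g₂ := Over.OverMorphism.ext (by
      show (zero K).left ≫ v₁ ≫ pullback.fst G.hom σ = (zero K).left ≫ v₂ ≫ pullback.fst G.hom σ
      rw [← Category.assoc, ← Category.assoc]
      exact congrArg (· ≫ pullback.fst G.hom σ) h0)
    have hd : g₁⁻¹ * g₂ = 1 := tangent_eq_one hdim g hg hgen hG σ z rfl _ (by
      rw [MonObj.comp_mul, GrpObj.comp_inv, h12, inv_mul_cancel])
    refine pullback.hom_ext ?_ (h₁.trans h₂.symm)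
    exact congrArg Over.Hom.left (inv_mul_eq_one.1 hd)
  have h := (Groth.Agent.S14352.result (pullback.snd G.hom σ)).1 inferInstance K (𝟙 _)
  let e := Scheme.homeoOfIso (asIso (pullback.fst (pullback.snd G.hom σ) (𝟙 (Spec (CommRingCat.of K)))))
  haveI := h.1
  haveI := h.2
  exact ⟨isReduced_of_isOpenImmersion (inv (pullback.fst (pullback.snd G.hom σ) (𝟙 (Spec (CommRingCat.of K))))),
    e.discreteTopology⟩

end Groth.Agent.H58Aut
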